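/-
Collection in a central extension of a polycyclic 2-group, with recorded central tails.

Main results: `collect_sound`, `Cert.bound`.
-/
import Cfsg.Agent.Lib.Multiplier.Basic

set_option autoImplicit false
set_option linter.style.haveILetI false

open scoped commutatorElement

namespace Cfsg.Agent.PcCover

/-- Sum of tail vectors. -/
def addV : List ℤ → List ℤ → List ℤ
  | [], w => w
  | v, [] => v
  | a :: v, b :: w => (a + b) :: addV v w

/-- Multiple of a tail vector. -/
def smulV (n : ℤ) (v : List ℤ) : List ℤ := v.map (n * ·)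

/-- Difference of tail vectors. -/
def subV (v w : List ℤ) : List ℤ := addV v (smulV (-1) w)

/-- The vector of the `k`-th tail. -/
def unitV (k : ℕ) : List ℤ := List.replicate k 0 ++ [1]

/-- All entries vanish. -/
def zeroV (v : List ℤ) : Bool := v.all (· == 0)

/-- Rewriting rules `u ↦ w`. -/
abbrev Rules := List (List ℕ × List ℕ)

/-- A rule whose left side begins the word. -/
def findRule (R : Rules) (w : List ℕ) : Option ℕ := R.findIdx? fun r => r.1.isPrefixOf w

/-- One rewriting at the first possible place. -/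
def step (R : Rules) : List ℕ → Option (List ℕ × ℕ)
  | [] => none
  | x :: r =>
    match findRule R (x :: r) with
    | some k => some ((R.getD k ([], [])).2 ++ (x :: r).drop (R.getD k ([], [])).1.length, k)
    | none => (step R r).map fun p => (x :: p.1, p.2)

/-- Repeated rewriting. -/
def collectAux (R : Rules) : ℕ → List ℕ → List ℤ → List ℕ × List ℤ
  | 0, w, v => (w, v)
  | n + 1, w, v =>
    match step R w with
    | some (w', k) => collectAux R n w' (addV v (unitV k))
    | none => (w, v)

/-- The collected word with its tail. -/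
def collect (R : Rules) (w : List ℕ) : List ℕ × List ℤ := collectAux R 100 w []

section

variable {Γ : Type*} [Group Γ]

/-- The value of a tail vector. -/
def val : List (Subgroup.center Γ) → List ℤ → Subgroup.center Γ
  | [], _ => 1
  | _, [] => 1
  | t :: ts, a :: v => t ^ a * val ts v

theorem val_nil (ts : List (Subgroup.center Γ)) : val ts [] = 1 := by cases ts <;> rfl

theorem cen_commute (x y : Subgroup.center Γ) : Commute x y :=
  Subtype.ext (Subgroup.mem_center_iff.1 y.2 x.1)

/-- The centre as a commutative group. -/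
@[reducible] def cenComm : CommGroup (Subgroup.center Γ) :=
  { (inferInstance : Group (Subgroup.center Γ)) with mul_comm := fun x y => (cen_commute x y).eq }

theorem cen_id₁ (p q r t : Subgroup.center Γ) : (q * r⁻¹) * p = t * (p * q * (t * r)⁻¹) := by
  letI := cenComm (Γ := Γ)
  apply Additive.ofMul.injective
  simp only [ofMul_mul, ofMul_inv]
  abel

theorem cen_id₂ (p q r t u : Subgroup.center Γ) : (q * r⁻¹) * (p * u) = t * (p * q * (t * r)⁻¹ * u) := by
  letI := cenComm (Γ := Γ)
  apply Additive.ofMul.injective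
  simp only [ofMul_mul, ofMul_inv]
  abel

theorem cen_id₃ (p q r t : Subgroup.center Γ) : (p * q) * (r * t) = p * r * (q * t) := by
  letI := cenComm (Γ := Γ)
  apply Additive.ofMul.injective
  simp only [ofMul_mul]
  abel

theorem val_add : ∀ (ts : List (Subgroup.center Γ)) (v w : List ℤ),
    val ts (addV v w) = val ts v * val ts w
  | [], _, _ => (one_mul 1).symm
  | t :: ts, [], w => by rw [val_nil, one_mul]; rfl
  | t :: ts, a :: v, [] => by rw [val_nil, mul_one]; rfl
  | t :: ts, a :: v, b :: w => by
    show t ^ (a + b) * val ts (addV v w) = t ^ a * val ts v * (t ^ b * val ts w)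
    rw [val_add ts v w, zpow_add, mul_assoc (t ^ a), mul_assoc (t ^ a), ← mul_assoc (t ^ b),
      (cen_commute (t ^ b) (val ts v)).eq, mul_assoc]

theorem val_smul : ∀ (ts : List (Subgroup.center Γ)) (n : ℤ) (v : List ℤ),
    val ts (smulV n v) = val ts v ^ n
  | [], n, _ => (one_zpow n).symm
  | t :: ts, n, [] => by rw [show smulV n [] = [] from rfl, val_nil, one_zpow]
  | t :: ts, n, a :: v => by
    show t ^ (n * a) * val ts (smulV n v) = (t ^ a * val ts v) ^ n
    rw [val_smul ts n v, (cen_commute _ _).mul_zpow, ← zpow_mul, mul_comm n a]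

theorem val_sub (ts : List (Subgroup.center Γ)) (v w : List ℤ) :
    val ts (subV v w) = val ts v * (val ts w)⁻¹ := by
  rw [subV, val_add, val_smul, zpow_neg_one]

theorem val_unit : ∀ (ts : List (Subgroup.center Γ)) (k : ℕ), val ts (unitV k) = ts.getD k 1
  | [], k => rfl
  | t :: ts, 0 => by
    show t ^ (1 : ℤ) * val ts [] = t
    rw [val_nil, zpow_one, mul_one]
  | t :: ts, k + 1 => by
    show t ^ (0 : ℤ) * val ts (unitV k) = ts.getD k 1
    rw [val_unit ts k, zpow_zero, one_mul]

theorem val_zero : ∀ (ts : List (Subgroup.center Γ)) (v : List ℤ), zeroV v = true → val ts v = 1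
  | [], _, _ => rfl
  | t :: ts, [], _ => rfl
  | t :: ts, a :: v, h => by
    simp only [zeroV, List.all_cons, Bool.and_eq_true, beq_iff_eq] at h
    show t ^ a * val ts v = 1
    rw [h.1, zpow_zero, one_mul, val_zero ts v h.2]

/-- The product of a word. -/
def wp (a : ℕ → Γ) (w : List ℕ) : Γ := (w.map a).prod

theorem wp_nil (a : ℕ → Γ) : wp a [] = 1 := rfl

theorem wp_cons (a : ℕ → Γ) (x : ℕ) (w : List ℕ) : wp a (x :: w) = a x * wp a w := List.prod_cons

theorem wp_append (a : ℕ → Γ) (u w : List ℕ) : wp a (u ++ w) = wp a u * wp a w := by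
  rw [wp, List.map_append, List.prod_append]; rfl

theorem wp_single (a : ℕ → Γ) (x : ℕ) : wp a [x] = a x := by rw [wp_cons, wp_nil, mul_one]

theorem comm_val (ts : List (Subgroup.center Γ)) (v : List ℤ) (g : Γ) :
    g * (val ts v : Γ) = (val ts v : Γ) * g :=
  Subgroup.mem_center_iff.1 (val ts v).2 g

theorem comm_cen (z : Subgroup.center Γ) (g : Γ) : g * (z : Γ) = (z : Γ) * g :=
  Subgroup.mem_center_iff.1 z.2 g

variable (a : ℕ → Γ) (ts : List (Subgroup.center Γ)) (R : Rules)

/-- The rules hold with their tails. -/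
def RulesHold : Prop :=
  ∀ k r, R[k]? = some r → wp a r.1 = wp a r.2 * (ts.getD k 1 : Γ)

variable {a ts R}

theorem step_sound (h : RulesHold a ts R) : ∀ (w w' : List ℕ) (k : ℕ), step R w = some (w', k) →
    wp a w = wp a w' * (ts.getD k 1 : Γ)
  | [], _, _, e => by simp [step] at e
  | x :: r, w', k, e => by
    rw [step] at e
    cases hf : findRule R (x :: r) with
    | none =>
      rw [hf] at e
      simp only [Option.map_eq_some_iff] at e
      obtain ⟨⟨u, l⟩, hu, e⟩ := e
      cases e
      rw [wp_cons, step_sound h r u l hu, wp_cons, mul_assoc]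
    | some i =>
      rw [hf] at e
      cases e
      obtain ⟨hlt, hp, -⟩ := List.findIdx?_eq_some_iff_getElem.1 hf
      have hget : R[k]? = some R[k] := List.getElem?_eq_getElem hlt
      have hgd : R.getD k ([], []) = R[k] := by rw [List.getD_eq_getElem?_getD, hget]; rfl
      obtain ⟨u, hu⟩ := List.isPrefixOf_iff_prefix.1 hp
      rw [hgd]
      conv_lhs => rw [← hu]
      rw [← hu, List.drop_left, wp_append, wp_append, h k R[k] hget, mul_assoc, mul_assoc, comm_cen]

theorem collectAux_sound (h : RulesHold a ts R) : ∀ (n : ℕ) (w : List ℕ) (v : List ℤ),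
    wp a w * (val ts v : Γ) = wp a (collectAux R n w v).1 * (val ts (collectAux R n w v).2 : Γ)
  | 0, _, _ => rfl
  | n + 1, w, v => by
    rw [collectAux]
    cases hs : step R w with
    | none => rfl
    | some p =>
      obtain ⟨w', k⟩ := p
      simp only
      rw [← collectAux_sound h n w' (addV v (unitV k)), step_sound h w w' k hs, val_add, val_unit,
        Subgroup.coe_mul, mul_assoc, comm_val]

theorem collect_sound (h : RulesHold a ts R) (w : List ℕ) :
    wp a w = wp a (collect R w).1 * (val ts (collect R w).2 : Γ) := by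
  have := collectAux_sound h 100 w []
  rwa [val_nil, Subgroup.coe_one, mul_one] at this

end

/-- A relation between tails. -/
inductive Rel
  /-- Two ways of collecting `p` followed by the left side of rule `k`. -/
  | cons (p : List ℕ) (k : ℕ)
  /-- Commuting pairs `A, B` and `A', B'` conjugate under the letter `g`. -/
  | fus (g : ℕ) (A B A' B' : List ℕ)

/-- Data bounding a primary part of the kernel. -/
structure Cert where
  /-- Number of generators of the subgroup. -/
  n : ℕ
  /-- The rules. -/
  rules : Rules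
  /-- The relations. -/
  rels : List Rel
  /-- The bounding vector. -/
  cvec : List ℤ
  /-- Its order. -/
  m : ℕ
  /-- `m • cvec` from the relations. -/
  mcomb : List ℤ
  /-- Echelon rows (pivot, row, combination of relations and `cvec`). -/
  basis : List (ℕ × List ℤ × List ℤ)
  /-- The derived group with tails. -/
  T : List (List ℕ × List ℤ)
  /-- The elements of the subgroup. -/
  elems : List (List ℕ)
  /-- The order of the whole group. -/
  order : ℕ
  /-- The prime. -/
  p : ℕ

/-- Linear combination. -/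
def comb : List ℤ → List (List ℤ) → List ℤ
  | a :: r, v :: vs => addV (smulV a v) (comb r vs)
  | _, _ => []

namespace Cert

variable (C : Cert)

/-- The vector of a relation. -/
def relVec : Rel → List ℤ
  | .cons q k =>
    subV (collect C.rules (q ++ (C.rules.getD k ([], [])).1)).2
      (addV (collect C.rules (q ++ (C.rules.getD k ([], [])).2)).2 (unitV k))
  | .fus _ A B A' B' =>
    subV (subV (collect C.rules (A ++ B)).2 (collect C.rules (B ++ A)).2)
      (subV (collect C.rules (A' ++ B')).2 (collect C.rules (B' ++ A')).2)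

/-- Validity of a relation, `eqw` deciding equality of images. -/
def relOk (eqw : List ℕ → List ℕ → Bool) : Rel → Bool
  | .cons q k =>
    decide (k < C.rules.length) &&
      (collect C.rules (q ++ (C.rules.getD k ([], [])).1)).1 ==
        (collect C.rules (q ++ (C.rules.getD k ([], [])).2)).1
  | .fus g A B A' B' =>
    (collect C.rules (A ++ B)).1 == (collect C.rules (B ++ A)).1 &&
      (collect C.rules (A' ++ B')).1 == (collect C.rules (B' ++ A')).1 &&
      eqw (g :: A) (A' ++ [g]) && eqw (g :: B) (B' ++ [g])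

/-- Reduction modulo the rows. -/
def red : List (ℕ × List ℤ × List ℤ) → List ℤ → List ℤ
  | [], v => v
  | (j, b, _) :: r, v => red r (subV v (smulV (v.getD j 0 / b.getD j 1) b))

/-- Membership in the lattice. -/
def inC (v : List ℤ) : Bool := zeroV (red C.basis v)

/-- `l` followed by a tail is equal to an element of the derived group. -/
def inT (l r : List ℕ) (v : List ℤ) : Bool :=
  C.T.any fun t =>
    (collect C.rules l).1 == (collect C.rules (r ++ t.1)).1 &&
      C.inC (subV (addV v (collect C.rules l).2) (addV t.2 (collect C.rules (r ++ t.1)).2))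

/-- The whole check. -/
def check (eqw : List ℕ → List ℕ → Bool) : Bool :=
  (C.rules.all fun r => eqw r.1 r.2) &&
  (C.rels.all (C.relOk eqw)) &&
  zeroV (subV (smulV (C.m : ℤ) C.cvec) (comb C.mcomb (C.rels.map C.relVec))) &&
  (C.basis.all fun b => zeroV (subV b.2.1 (comb b.2.2 (C.cvec :: C.rels.map C.relVec)))) &&
  C.T.contains ([], []) &&
  (C.T.all fun t => C.T.all fun t' => C.inT (t.1 ++ t'.1) [] (addV t.2 t'.2)) &&
  ((List.range C.n).all fun i => C.T.all fun t =>
    C.T.any fun t' => (collect C.rules (i :: t.1)).1 == (collect C.rules (t'.1 ++ [i])).1 &&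
      C.inC (subV (addV t.2 (collect C.rules (i :: t.1)).2) (addV t'.2 (collect C.rules (t'.1 ++ [i])).2))) &&
  ((List.range C.n).all fun x => (List.range C.n).all fun y => C.inT [x, y] [y, x] []) &&
  (C.T.all fun t => !eqw t.1 [] || (t.1 == [] && zeroV t.2)) &&
  C.elems.contains [] &&
  (C.elems.all fun l => l.all (fun i => decide (i < C.n))) &&
  (C.elems.all fun l => (List.range C.n).all fun i => C.elems.contains (collect C.rules (l ++ [i])).1) &&
  ((List.range C.elems.length).all fun i => (List.range i).all fun j =>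
    !eqw (C.elems.getD i []) (C.elems.getD j [])) &&
  (C.order % C.elems.length == 0 && !(C.order / C.elems.length % C.p == 0))

end Cert

section

variable {Γ : Type*} [Group Γ] [Finite Γ] {G : Type*} [Group G] [Finite G] {σ : Γ →* G}

omit [Finite Γ] [Finite G] in
theorem wp_map {a : ℕ → Γ} {g : ℕ → G} (ha : ∀ i, σ (a i) = g i) (w : List ℕ) :
    σ (wp a w) = wp g w := by
  rw [wp, wp, map_list_prod, List.map_map]
  exact congrArg List.prod (List.map_congr_left fun i _ => ha i)

/-- A checked certificate bounds the `p`-primary part of the kernel. -/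
theorem Cert.bound (C : Cert) (g : ℕ → G) (eqw : List ℕ → List ℕ → Bool)
    (heqw : ∀ u w, eqw u w = true ↔ wp g u = wp g w) (hcard : Nat.card G = C.order)
    (hp : C.p.Prime) (h : C.check eqw = true) (hσ : Cfsg.IsStemExtension σ) :
    ∃ c : Γ, ∀ (k : ℕ) (z : Γ), z ∈ σ.ker → z ^ C.p ^ k = 1 →
      z ∈ Subgroup.zpowers c ∧ z ^ C.m = 1 := by
  classical
  simp only [Cert.check, Bool.and_eq_true, List.all_eq_true, Bool.or_eq_true, Bool.not_eq_true',
    List.mem_range, decide_eq_true_eq, beq_iff_eq] at h
  obtain ⟨⟨⟨⟨⟨⟨⟨⟨⟨⟨⟨⟨⟨hrules, hrels⟩, hmc⟩, hbasis⟩, hone⟩, hmul⟩, hconj⟩, hcomm⟩, hker⟩, heone⟩,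
    helt⟩, heclosed⟩, henodup⟩, horder⟩ := h
  have hc := hσ.2.1
  choose a ha using fun i => hσ.1 (g i)
  have hσw : ∀ w, σ (wp a w) = wp g w := wp_map ha
  have hτ : ∀ r : List ℕ × List ℕ, r ∈ C.rules → (wp a r.2)⁻¹ * wp a r.1 ∈ σ.ker := fun r hr => by
    rw [MonoidHom.mem_ker, map_mul, map_inv, hσw, hσw, (heqw _ _).1 (hrules r hr), inv_mul_cancel]
  let ts : List (Subgroup.center Γ) := C.rules.attach.map fun r => ⟨_, hc (hτ r.1 r.2)⟩
  have hR : RulesHold a ts C.rules := by
    intro k r hr
    have : ts[k]? = some ⟨(wp a r.2)⁻¹ * wp a r.1, hc (hτ r (List.mem_of_getElem? hr))⟩ := by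
      simp only [ts, List.getElem?_map, List.getElem?_attach, hr, Option.pmap_some, Option.map_some]
    rw [List.getD_eq_getElem?_getD, this, Option.getD_some]
    exact (mul_inv_cancel_left _ _).symm
  have hts : ∀ t ∈ ts, (t : Γ) ∈ σ.ker := by
    intro t ht
    obtain ⟨r, -, rfl⟩ := List.mem_map.1 ht
    exact hτ r.1 r.2
  have hval : ∀ (us : List (Subgroup.center Γ)) (v : List ℤ), (∀ t ∈ us, (t : Γ) ∈ σ.ker) →
      (val us v : Γ) ∈ σ.ker := by
    intro us
    induction us with
    | nil => intro v _; exact one_mem _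
    | cons t us ih =>
      intro v hus
      cases v with
      | nil => exact one_mem _
      | cons b v =>
        show ((t ^ b * val us v : Subgroup.center Γ) : Γ) ∈ σ.ker
        rw [Subgroup.coe_mul, SubgroupClass.coe_zpow]
        exact mul_mem (zpow_mem (hus t List.mem_cons_self) b)
          (ih v fun u hu => hus u (List.mem_cons_of_mem _ hu))
  have hV : ∀ v, (val ts v : Γ) ∈ σ.ker := fun v => hval ts v hts
  have hnf : ∀ {u w : List ℕ}, (collect C.rules u).1 = (collect C.rules w).1 →
      wp a u = wp a w * (val ts (subV (collect C.rules u).2 (collect C.rules w).2) : Γ) := by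
    intro u w e
    conv_lhs => rw [collect_sound hR u]
    conv_rhs => rw [collect_sound hR w]
    rw [e, mul_assoc, val_sub, ← Subgroup.coe_mul, mul_comm_cen (val ts (collect C.rules w).2),
      inv_mul_cancel_right]
  have hrel : ∀ r ∈ C.rels, val ts (C.relVec r) = 1 := by
    intro r hr
    have hok := hrels r hr
    cases r with
    | cons q k =>
      simp only [Cert.relOk, Bool.and_eq_true, decide_eq_true_eq, beq_iff_eq] at hok
      have e := hnf hok.2
      have hget : C.rules[k]? = some C.rules[k] := List.getElem?_eq_getElem hok.1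
      have hgd : C.rules.getD k ([], []) = C.rules[k] := by rw [List.getD_eq_getElem?_getD, hget]; rfl
      rw [Cert.relVec, hgd]
      rw [hgd, wp_append, wp_append, hR k _ hget, ← mul_assoc, val_sub] at e
      rw [val_sub, val_add, val_unit, mul_inv_rev, mul_comm_cen (ts.getD k 1)⁻¹, ← mul_assoc]
      have e' := Subtype.ext (mul_left_cancel e) (a1 := ts.getD k 1)
      rw [← e', mul_inv_cancel]
    | fus x A B A' B' =>
      simp only [Cert.relOk, Bool.and_eq_true, beq_iff_eq] at hok
      obtain ⟨⟨⟨h1, h2⟩, h3⟩, h4⟩ := hok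
      rw [Cert.relVec, val_sub, mul_inv_eq_one]
      have key : ∀ {X Y : List ℕ}, (collect C.rules (X ++ Y)).1 = (collect C.rules (Y ++ X)).1 →
          (val ts (subV (collect C.rules (X ++ Y)).2 (collect C.rules (Y ++ X)).2) : Γ) =
            ⁅wp a X, wp a Y⁆ := by
        intro X Y e
        have e' := hnf e
        rw [wp_append, wp_append] at e'
        rw [commutatorElement_def, e',
          comm_val ts (subV (collect C.rules (X ++ Y)).2 (collect C.rules (Y ++ X)).2) (wp a Y * wp a X)]
        group
      have himg : ∀ {X X' : List ℕ}, wp g (x :: X) = wp g (X' ++ [x]) →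
          σ (wp a X') = σ (a x * wp a X * (a x)⁻¹) := by
        intro X X' e
        rw [map_mul, map_mul, map_inv, hσw, hσw, ha]
        rw [wp_cons, wp_append, wp_single] at e
        rw [e, mul_inv_cancel_right]
      refine Subtype.ext ?_
      rw [key h1, key h2, Multiplier.commutator_congr hc (himg ((heqw _ _).1 h3)) (himg ((heqw _ _).1 h4)),
        ← Multiplier.conj_commutator]
      have hcc : ⁅wp a A, wp a B⁆ ∈ Subgroup.center Γ := by
        rw [← key h1]; exact (val ts _).2
      rw [Subgroup.mem_center_iff.1 hcc (a x), mul_inv_cancel_right]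
  let Z : Subgroup (Subgroup.center Γ) := Subgroup.zpowers (val ts C.cvec)
  have hcomb : ∀ (H : Subgroup (Subgroup.center Γ)) (cs : List ℤ) (vs : List (List ℤ)),
      (∀ v ∈ vs, val ts v ∈ H) → val ts (comb cs vs) ∈ H := by
    intro H cs
    induction cs with
    | nil => intro vs _; rw [comb, val_nil]; exact one_mem _; simp
    | cons b cs ih =>
      intro vs hvs
      cases vs with
      | nil => rw [comb, val_nil]; exact one_mem _; simp
      | cons v vs =>
        rw [comb, val_add, val_smul]
        exact mul_mem (zpow_mem (hvs v List.mem_cons_self) b)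
          (ih vs fun u hu => hvs u (List.mem_cons_of_mem _ hu))
  have hrelv : ∀ v ∈ C.rels.map C.relVec, val ts v = 1 := by
    intro v hv
    obtain ⟨r, hr, rfl⟩ := List.mem_map.1 hv
    exact hrel r hr
  have hcm : val ts C.cvec ^ C.m = 1 := by
    have := val_zero ts _ hmc
    rw [val_sub, val_smul, mul_inv_eq_one, zpow_natCast] at this
    rw [this, ← Subgroup.mem_bot]
    exact hcomb ⊥ _ _ fun v hv => Subgroup.mem_bot.2 (hrelv v hv)
  have hrow : ∀ b ∈ C.basis, val ts b.2.1 ∈ Z := by
    intro b hb
    have := val_zero ts _ (hbasis b hb)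
    rw [val_sub, mul_inv_eq_one] at this
    rw [this]
    refine hcomb Z _ _ fun v hv => ?_
    rcases List.mem_cons.1 hv with rfl | hv
    · exact Subgroup.mem_zpowers _
    · rw [hrelv v hv]; exact one_mem _
  have hinC : ∀ v, C.inC v = true → val ts v ∈ Z := by
    have hred : ∀ (B : List (ℕ × List ℤ × List ℤ)) (v : List ℤ), (∀ b ∈ B, val ts b.2.1 ∈ Z) →
        val ts (Cert.red B v) ∈ Z → val ts v ∈ Z := by
      intro B
      induction B with
      | nil => intro v _ h; exact h
      | cons b B ih =>
        obtain ⟨j, b, cs⟩ := b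
        intro v hB h
        rw [Cert.red] at h
        have := ih _ (fun x hx => hB x (List.mem_cons_of_mem _ hx)) h
        rw [val_sub, val_smul] at this
        exact (Subgroup.mul_mem_cancel_right _
          (inv_mem (zpow_mem (hB _ List.mem_cons_self) _))).1 this
    intro v hv
    refine hred _ v hrow ?_
    rw [val_zero ts _ hv]; exact one_mem _
  -- the derived group
  let inM : Γ → Prop := fun x => ∃ t ∈ C.T, ∃ z ∈ Z, x = wp a t.1 * ((val ts t.2 * z : Subgroup.center Γ) : Γ)
  have hTmem : ∀ {l r : List ℕ} {v : List ℤ}, C.inT l r v = true →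
      ∃ m, inM m ∧ wp a l * (val ts v : Γ) = wp a r * m := by
    intro l r v e
    simp only [Cert.inT, List.any_eq_true, Bool.and_eq_true, beq_iff_eq] at e
    obtain ⟨t, ht, e1, e2⟩ := e
    have hz := hinC _ e2
    rw [val_sub, val_add, val_add] at hz
    refine ⟨_, ⟨t, ht, _, hz, rfl⟩, ?_⟩
    rw [hnf e1, wp_append, val_sub]
    simp only [mul_assoc, ← Subgroup.coe_mul]
    congr 3
    simpa only [mul_assoc] using cen_id₁ (val ts v) (val ts (collect C.rules l).2)
      (val ts (collect C.rules (r ++ t.1)).2) (val ts t.2)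
  have hMmul : ∀ x y, inM x → inM y → inM (x * y) := by
    rintro _ _ ⟨t, ht, z, hz, rfl⟩ ⟨t', ht', z', hz', rfl⟩
    obtain ⟨m, ⟨s, hs, w, hw, rfl⟩, hm⟩ := hTmem (hmul t ht t' ht')
    refine ⟨s, hs, w * (z * z'), mul_mem hw (mul_mem hz hz'), ?_⟩
    rw [wp_nil, one_mul, wp_append, val_add] at hm
    have e1 : wp a t.1 * ((val ts t.2 * z : Subgroup.center Γ) : Γ) * (wp a t'.1 * ((val ts t'.2 * z' : Subgroup.center Γ) : Γ))
        = wp a t.1 * wp a t'.1 * ((val ts t.2 * z * (val ts t'.2 * z') : Subgroup.center Γ) : Γ) := by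
      rw [Subgroup.coe_mul (Subgroup.center Γ) (val ts t.2 * z), mul_assoc, mul_assoc, ← mul_assoc _ (wp a t'.1),
        ← comm_cen (val ts t.2 * z) (wp a t'.1), mul_assoc (wp a t'.1)]
    rw [e1, cen_id₃, Subgroup.coe_mul, ← mul_assoc, hm, mul_assoc, ← Subgroup.coe_mul, mul_assoc (val ts s.2)]
  have hMone : inM 1 :=
    ⟨([], []), List.contains_iff_mem.1 hone, 1, one_mem _, by rw [wp_nil, val_nil, mul_one, Subgroup.coe_one, mul_one]⟩
  let M0 : Submonoid Γ := { carrier := {x | inM x}, one_mem' := hMone, mul_mem' := fun h h' => hMmul _ _ h h' }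
  let M : Subgroup Γ :=
    { M0 with
      inv_mem' := fun {x} hx => by
        have h0 : 0 < orderOf x := orderOf_pos x
        have h1 : x * x ^ (orderOf x - 1) = 1 := by
          rw [← pow_succ', show orderOf x - 1 + 1 = orderOf x by omega, pow_orderOf_eq_one]
        rw [inv_eq_of_mul_eq_one_right h1]
        exact M0.pow_mem hx _ }
  have hconjM : ∀ i < C.n, ∀ x ∈ M, a i * x * (a i)⁻¹ ∈ M := by
    rintro i hi _ ⟨t, ht, z, hz, rfl⟩
    obtain ⟨t', ht', e⟩ := List.any_eq_true.1 (hconj i hi t ht)
    simp only [Bool.and_eq_true, beq_iff_eq] at e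
    have hz' := hinC _ e.2
    rw [val_sub, val_add, val_add] at hz'
    refine ⟨t', ht', _, mul_mem hz' hz, ?_⟩
    rw [mul_inv_eq_iff_eq_mul, ← mul_assoc, ← wp_cons, hnf e.1, wp_append, wp_single, val_sub,
      mul_assoc (wp a t'.1) _ (a i), ← comm_cen, mul_assoc, mul_assoc (wp a t'.1),
      ← Subgroup.coe_mul]
    congr 3
    simpa only [mul_assoc] using cen_id₂ (val ts t.2) (val ts (collect C.rules (i :: t.1)).2)
      (val ts (collect C.rules (t'.1 ++ [i])).2) (val ts t'.2) z
  let S : Set Γ := {x | ∃ i < C.n, x = a i} ∪ (σ.ker : Set Γ)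
  have hnorm : ∀ s ∈ S, ∀ x ∈ M, s * x * s⁻¹ ∈ M := by
    rintro s (⟨i, hi, rfl⟩ | hs) x hx
    · exact hconjM i hi x hx
    · rw [← Subgroup.mem_center_iff.1 (hc hs) x, mul_inv_cancel_right]; exact hx
  have hgen : ∀ s ∈ S, ∀ t ∈ S, ⁅s, t⁆ ∈ M := by
    intro s hs t ht
    rcases hs with ⟨x, hx, rfl⟩ | hs
    · rcases ht with ⟨y, hy, rfl⟩ | ht
      · obtain ⟨m, hm, e⟩ := hTmem (hcomm x hx y hy)
        simp only [val_nil, Subgroup.coe_one, mul_one, wp_cons, wp_nil] at e
        rw [show ⁅a x, a y⁆ = a y * (a x * m * (a x)⁻¹) * (a y)⁻¹ by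
          rw [commutatorElement_def, e]; group]
        exact hconjM y hy _ (hconjM x hx m hm)
      · rw [commutatorElement_eq_one_iff_commute.2 (Subgroup.mem_center_iff.1 (hc ht) _)]
        exact one_mem _
    · rw [commutatorElement_eq_one_iff_commute.2 (Subgroup.mem_center_iff.1 (hc hs) _).symm]
      exact one_mem _
  -- the subgroup of index prime to `p`
  let Q : Subgroup G := Subgroup.closure {x | ∃ i < C.n, x = g i}
  have hsetE : ∀ x ∈ Q, ∃ l ∈ C.elems, wp g l = x := by
    intro x hx
    rw [← Subgroup.mem_toSubmonoid, Subgroup.closure_toSubmonoid_of_finite] at hx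
    induction hx using Submonoid.closure_induction_right with
    | one => exact ⟨[], List.contains_iff_mem.1 heone, rfl⟩
    | mul_right x _ y hy ih =>
      obtain ⟨l, hl, rfl⟩ := ih
      obtain ⟨i, hi, rfl⟩ := hy
      refine ⟨_, List.contains_iff_mem.1 (heclosed l hl i hi), ?_⟩
      have := congrArg σ (collect_sound hR (l ++ [i]))
      rw [map_mul, hσw, hσw, hV _, mul_one, wp_append, wp_single] at this
      exact this.symm
  have hQmem : ∀ l ∈ C.elems, wp g l ∈ Q := fun l hl => Subgroup.list_prod_mem Q (by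
    intro x hx
    obtain ⟨i, hi, rfl⟩ := List.mem_map.1 hx
    exact Subgroup.subset_closure ⟨i, helt l hl i hi, rfl⟩)
  have hidx : ¬ C.p ∣ Q.index := by
    have hcq : Nat.card Q = C.elems.length := by
      let f : Fin C.elems.length → Q := fun i => ⟨wp g (C.elems.get i), hQmem _ (List.get_mem _ _)⟩
      refine ((Nat.card_congr (Equiv.ofBijective f ⟨fun i j e => ?_, fun ⟨x, hx⟩ => ?_⟩)).symm).trans
        (Nat.card_fin _)
      · have e' : wp g (C.elems.get i) = wp g (C.elems.get j) := congrArg Subtype.val e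
        have key : ∀ i j : Fin C.elems.length, j < i → wp g (C.elems.get i) ≠ wp g (C.elems.get j) := by
          intro i j hlt he
          have := henodup i.val i.isLt j.val hlt
          rw [← heqw] at he
          simp [List.getD_eq_getElem?_getD] at this
          simp [this] at he
        rcases lt_trichotomy i j with h | h | h
        · exact absurd e'.symm (key j i h)
        · exact h
        · exact absurd e' (key i j h)
      · obtain ⟨l, hl, rfl⟩ := hsetE x hx
        obtain ⟨i, hi⟩ := List.get_of_mem hl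
        exact ⟨i, Subtype.ext (by simp [f, ← hi])⟩
    have hcq' := Q.card_mul_index
    rw [hcq, hcard] at hcq'
    have hpos : 0 < C.elems.length := hcq ▸ Nat.card_pos
    obtain ⟨-, h2⟩ := horder
    rw [← hcq', Nat.mul_div_cancel_left _ hpos] at h2
    intro hd
    rw [Nat.mod_eq_zero_of_dvd hd] at h2
    simp at h2
  refine ⟨(val ts C.cvec : Γ), fun k z hz hord => ?_⟩
  have hle : σ.ker ≤ Subgroup.closure S := fun x hx => Subgroup.subset_closure (Or.inr hx)
  have hidx' : ¬ C.p ∣ (Subgroup.closure S).index := by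
    have hQS : Q ≤ (Subgroup.closure S).map σ := by
      rw [Subgroup.closure_le]
      rintro _ ⟨i, hi, rfl⟩
      exact ⟨a i, Subgroup.subset_closure (Or.inl ⟨i, hi, rfl⟩), ha i⟩
    rw [← Subgroup.index_map_eq _ hσ.1 hle]
    exact fun hd => hidx (hd.trans (Subgroup.index_dvd_of_le hQS))
  have hmem := Schur.mem_commutator_of_not_dvd_index hp (Subgroup.closure S) hidx' (hle hz) (hc hz)
    (hσ.2.2 hz) hord
  have hmem' := Subgroup.mem_map_of_mem (Subgroup.closure S).subtype hmem
  rw [Subgroup.map_subtype_commutator] at hmem'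
  obtain ⟨t, ht, w, hw, hz'⟩ := Multiplier.commutator_closure_le S M hgen hnorm hmem'
  change z = wp a t.1 * _ at hz'
  have h1 : wp g t.1 = 1 := by
    have := congrArg σ hz'
    rw [MonoidHom.mem_ker.1 hz, map_mul, hσw, MonoidHom.mem_ker.1 (show ((val ts t.2 * w : Subgroup.center Γ) : Γ) ∈ σ.ker by
      obtain ⟨j, rfl⟩ := Subgroup.mem_zpowers_iff.1 hw
      rw [Subgroup.coe_mul, SubgroupClass.coe_zpow]
      exact mul_mem (hV _) (zpow_mem (hV _) _)), mul_one] at this
    exact this.symm
  rcases hker t ht with h' | ⟨h', h''⟩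
  · rw [(heqw t.1 []).2 h1] at h'; simp at h'
  rw [h', wp_nil, val_zero ts _ h'', one_mul, one_mul] at hz'
  obtain ⟨j, rfl⟩ := Subgroup.mem_zpowers_iff.1 hw
  rw [SubgroupClass.coe_zpow] at hz'
  refine ⟨Subgroup.mem_zpowers_iff.2 ⟨j, hz'.symm⟩, ?_⟩
  rw [hz', ← zpow_natCast, ← zpow_mul, mul_comm, zpow_mul, zpow_natCast, ← SubgroupClass.coe_pow, hcm,
    Subgroup.coe_one, one_zpow]
where
  mul_comm_cen {Γ : Type _} [Group Γ] (x : Subgroup.center Γ) (y : Subgroup.center Γ) : x * y = y * x :=
    (cen_commute x y).eq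

end

end Cfsg.Agent.PcCover
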