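/-
Corestriction of a central extension of a subgroup to the whole group.

Main result: `exists_stem_of_transfer`.
-/
import Cfsg.Agent.EqLemmas
import Cfsg.Prelude.Def_KGroupFacts

set_option autoImplicit false
set_option linter.style.haveILetI false

open scoped commutatorElement

namespace Cfsg.Agent.PcCover

universe u v

/-- A normalisation free 2-cocycle with values in an abelian group, for the trivial action. -/
structure Cocycle (G : Type u) [Group G] (Z : Type v) [CommGroup Z] where
  /-- The values. -/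
  F : G → G → Z
  cocycle : ∀ g h k, F g h * F (g * h) k = F h k * F g (h * k)

/-- The extension defined by a cocycle. -/
@[ext] structure CExt {G : Type u} [Group G] {Z : Type v} [CommGroup Z] (c : Cocycle G Z) where
  /-- The image. -/
  base : G
  /-- The central coordinate. -/
  fib : Z

namespace CExt

variable {G : Type u} [Group G] {Z : Type v} [CommGroup Z] {c : Cocycle G Z}

theorem one_left (c : Cocycle G Z) (g : G) : c.F 1 g = c.F 1 1 := by
  have h := c.cocycle 1 1 g
  simp only [one_mul] at h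
  exact (mul_right_cancel (h.trans (mul_comm _ _))).symm

theorem one_right (c : Cocycle G Z) (g : G) : c.F g 1 = c.F 1 1 := by
  have h := c.cocycle g 1 1
  simp only [mul_one] at h
  rw [mul_comm (c.F 1 1)] at h
  exact mul_left_cancel h

instance : Mul (CExt c) := ⟨fun x y => ⟨x.base * y.base, x.fib * y.fib * c.F x.base y.base⟩⟩

instance : One (CExt c) := ⟨⟨1, (c.F 1 1)⁻¹⟩⟩

instance : Inv (CExt c) := ⟨fun x => ⟨x.base⁻¹, (x.fib * c.F x.base⁻¹ x.base)⁻¹ * (c.F 1 1)⁻¹⟩⟩

theorem mul_base (x y : CExt c) : (x * y).base = x.base * y.base := rfl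
theorem mul_fib (x y : CExt c) : (x * y).fib = x.fib * y.fib * c.F x.base y.base := rfl
theorem one_base : (1 : CExt c).base = 1 := rfl
theorem one_fib : (1 : CExt c).fib = (c.F 1 1)⁻¹ := rfl
theorem inv_base (x : CExt c) : (x⁻¹).base = x.base⁻¹ := rfl
theorem inv_fib (x : CExt c) : (x⁻¹).fib = (x.fib * c.F x.base⁻¹ x.base)⁻¹ * (c.F 1 1)⁻¹ := rfl

instance : Group (CExt c) :=
  Group.ofLeftAxioms
    (fun x y z => CExt.ext (mul_assoc _ _ _) (by
      simp only [mul_fib, mul_base]
      rw [show x.fib * y.fib * c.F x.base y.base * z.fib * c.F (x.base * y.base) z.base =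
        x.fib * y.fib * z.fib * (c.F x.base y.base * c.F (x.base * y.base) z.base) by ac_rfl, c.cocycle]
      ac_rfl))
    (fun x => CExt.ext (by rw [mul_base, one_base, one_mul]) (by
      rw [mul_fib, one_base, one_fib, one_left c x.base, mul_comm (c.F 1 1)⁻¹, inv_mul_cancel_right]))
    (fun x => CExt.ext (by rw [mul_base, inv_base, inv_mul_cancel]; rfl) (by
      rw [mul_fib, inv_base, inv_fib, one_fib]
      calc (x.fib * c.F x.base⁻¹ x.base)⁻¹ * (c.F 1 1)⁻¹ * x.fib * c.F x.base⁻¹ x.base
          = (x.fib * c.F x.base⁻¹ x.base)⁻¹ * (x.fib * c.F x.base⁻¹ x.base) * (c.F 1 1)⁻¹ := by ac_rfl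
        _ = (c.F 1 1)⁻¹ := by rw [inv_mul_cancel, one_mul]))

/-- The projection. -/
def proj : CExt c →* G where
  toFun := CExt.base
  map_one' := rfl
  map_mul' _ _ := rfl

theorem proj_surjective : Function.Surjective (proj (c := c)) := fun g => ⟨⟨g, 1⟩, rfl⟩

/-- The central embedding. -/
def incl : Z →* CExt c where
  toFun k := ⟨1, k * (c.F 1 1)⁻¹⟩
  map_one' := CExt.ext rfl (one_mul _)
  map_mul' a b := CExt.ext (mul_one 1).symm (by
    show a * b * (c.F 1 1)⁻¹ = a * (c.F 1 1)⁻¹ * (b * (c.F 1 1)⁻¹) * c.F 1 1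
    rw [mul_assoc _ (b * (c.F 1 1)⁻¹), inv_mul_cancel_right]
    ac_rfl)

theorem incl_injective : Function.Injective (incl (c := c)) := fun a b h =>
  mul_right_cancel (show a * (c.F 1 1)⁻¹ = b * (c.F 1 1)⁻¹ from congrArg CExt.fib h)

theorem ker_proj : (proj (c := c)).ker = (incl (c := c)).range := by
  ext x
  rw [MonoidHom.mem_ker, MonoidHom.mem_range]
  refine ⟨fun h => ⟨x.fib * c.F 1 1, CExt.ext h.symm (mul_inv_cancel_right _ _)⟩, ?_⟩
  rintro ⟨k, rfl⟩
  rfl

theorem ker_le_center : (proj (c := c)).ker ≤ Subgroup.center (CExt c) := by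
  intro x hx
  have hb : x.base = 1 := hx
  rw [Subgroup.mem_center_iff]
  intro g
  refine CExt.ext (by rw [mul_base, mul_base, hb, mul_one, one_mul]) ?_
  rw [mul_fib, mul_fib, hb, one_left, one_right, mul_comm g.fib]

/-- The commutator of lifts of commuting elements. -/
theorem commutator_mk {x y : G} (h : x * y = y * x) :
    ⁅(⟨x, 1⟩ : CExt c), (⟨y, 1⟩ : CExt c)⁆ = incl (c.F x y * (c.F y x)⁻¹) := by
  rw [commutatorElement_def, mul_inv_eq_iff_eq_mul, mul_inv_eq_iff_eq_mul]
  refine CExt.ext ?_ ?_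
  · show x * y = 1 * y * x
    rw [one_mul, h]
  · simp only [mul_fib, mul_base]
    show 1 * 1 * c.F x y = c.F x y * (c.F y x)⁻¹ * (c.F 1 1)⁻¹ * 1 * c.F 1 y * 1 * c.F (1 * y) x
    rw [one_left c y, one_mul, one_mul, mul_one, mul_one, inv_mul_cancel_right, one_mul, inv_mul_cancel_right]

instance [Finite G] [Finite Z] : Finite (CExt c) :=
  Finite.of_equiv (G × Z) ⟨fun p => ⟨p.1, p.2⟩, fun x => (x.base, x.fib), fun _ => rfl, fun _ => rfl⟩

end CExt

section transfer

variable {G : Type u} [Group G] {Γ : Type v} [Group Γ] (σ : Γ →* G)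
  {n : ℕ} (e : Fin n ≃ G ⧸ σ.range) (R : Fin n → G)

/-- The action on the indices. -/
def act (g : G) (t : Fin n) : Fin n := e.symm (g • e t)

theorem act_mul (g h : G) (t : Fin n) : act σ e (g * h) t = act σ e g (act σ e h t) := by
  rw [act, act, act, Equiv.apply_symm_apply, mul_smul]

/-- The action as a permutation. -/
def actEquiv (g : G) : Fin n ≃ Fin n :=
  (e.trans (MulAction.toPerm g)).trans e.symm

theorem actEquiv_apply (g : G) (t : Fin n) : actEquiv σ e g t = act σ e g t := rfl

variable (hR : ∀ t, (R t : G ⧸ σ.range) = e t)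

include hR in
theorem mem_range_step (g : G) (t : Fin n) : (R (act σ e g t))⁻¹ * (g * R t) ∈ σ.range := by
  rw [← QuotientGroup.eq, hR, act, Equiv.apply_symm_apply, ← hR t]
  rfl

/-- A lift of the step of `g` at `t`. -/
noncomputable def lift (g : G) (t : Fin n) : Γ := (mem_range_step σ e R hR g t).choose

theorem lift_spec (g : G) (t : Fin n) :
    σ (lift σ e R hR g t) = (R (act σ e g t))⁻¹ * (g * R t) :=
  (mem_range_step σ e R hR g t).choose_spec

theorem lift_mul (g h : G) (t : Fin n) :
    σ (lift σ e R hR g (act σ e h t) * lift σ e R hR h t) = σ (lift σ e R hR (g * h) t) := by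
  rw [map_mul, lift_spec, lift_spec, lift_spec, act_mul]
  group

/-- The factor set at one index. -/
noncomputable def factor (g h : G) (t : Fin n) : σ.ker :=
  ⟨lift σ e R hR g (act σ e h t) * lift σ e R hR h t * (lift σ e R hR (g * h) t)⁻¹, by
    rw [MonoidHom.mem_ker, map_mul _ _ (lift σ e R hR (g * h) t)⁻¹, lift_mul, map_inv, mul_inv_cancel]⟩

variable (hc : σ.ker ≤ Subgroup.center Γ)

/-- The kernel as a commutative group. -/
@[reducible] def kerComm : CommGroup σ.ker :=
  { (inferInstance : Group σ.ker) with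
    mul_comm := fun x y => Subtype.ext ((Subgroup.mem_center_iff.1 (hc y.2)) x.1) }

include hc in
theorem factor_cocycle (g h k : G) (t : Fin n) :
    factor σ e R hR g h (act σ e k t) * factor σ e R hR (g * h) k t =
      factor σ e R hR h k t * factor σ e R hR g (h * k) t := by
  refine Subtype.ext ?_
  have hz : (factor σ e R hR h k t : Γ) ∈ Subgroup.center Γ := hc (factor σ e R hR h k t).2
  show lift σ e R hR g (act σ e h (act σ e k t)) * lift σ e R hR h (act σ e k t) *
      (lift σ e R hR (g * h) (act σ e k t))⁻¹ *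
      (lift σ e R hR (g * h) (act σ e k t) * lift σ e R hR k t * (lift σ e R hR (g * h * k) t)⁻¹) =
    (factor σ e R hR h k t : Γ) * (lift σ e R hR g (act σ e (h * k) t) * lift σ e R hR (h * k) t *
      (lift σ e R hR (g * (h * k)) t)⁻¹)
  rw [act_mul, mul_assoc g h k]
  generalize hA : lift σ e R hR g (act σ e h (act σ e k t)) = A
  rw [← mul_assoc (factor σ e R hR h k t : Γ), ← mul_assoc (factor σ e R hR h k t : Γ),
    ← (Subgroup.mem_center_iff.1 hz) A]
  show _ = A * (lift σ e R hR h (act σ e k t) * lift σ e R hR k t * (lift σ e R hR (h * k) t)⁻¹) *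
    lift σ e R hR (h * k) t * (lift σ e R hR (g * (h * k)) t)⁻¹
  group

/-- The corestricted cocycle. -/
noncomputable def cor : @Cocycle G _ σ.ker (kerComm σ hc) :=
  @Cocycle.mk G _ σ.ker (kerComm σ hc)
    (fun g h => @Finset.prod _ σ.ker (kerComm σ hc).toCommMonoid Finset.univ (fun t => factor σ e R hR g h t))
    (fun g h k => by
      letI := kerComm σ hc
      show (∏ t, factor σ e R hR g h t) * ∏ t, factor σ e R hR (g * h) k t =
        (∏ t, factor σ e R hR h k t) * ∏ t, factor σ e R hR g (h * k) t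
      rw [← Equiv.prod_comp (actEquiv σ e k) (fun t => factor σ e R hR g h t),
        ← Finset.prod_mul_distrib, ← Finset.prod_mul_distrib]
      exact Finset.prod_congr rfl fun t _ => factor_cocycle σ e R hR hc g h k t)

include hR in
/-- The corestricted extension is a stem extension if the corestricted commutator of two commuting
elements generates the kernel. -/
theorem exists_stem_of_transfer [Finite G] [Finite Γ] (hc : σ.ker ≤ Subgroup.center Γ)
    (x y : G) (hxy : x * y = y * x) (jx jy : Fin n → Fin n) (p q : Fin n → Γ)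
    (hp : ∀ t, x * R t = R (jx t) * σ (p t)) (hq : ∀ t, y * R t = R (jy t) * σ (q t))
    (κ : Fin n → σ.ker)
    (hκ : ∀ t, p (jy t) * q t = (κ t : Γ) * (q (jx t) * p t))
    (hgen : Subgroup.zpowers (@Finset.prod _ σ.ker (kerComm σ hc).toCommMonoid Finset.univ κ) = ⊤) :
    ∃ (Γ' : Type (max u v)) (_ : Group Γ') (_ : Finite Γ') (τ : Γ' →* G),
      Cfsg.IsStemExtension τ ∧ Nonempty (σ.ker ≃* τ.ker) := by
  classical
  letI := kerComm σ hc
  let c := cor σ e R hR hc
  have hact : ∀ (g : G) (j : Fin n → Fin n) (r : Fin n → Γ), (∀ t, g * R t = R (j t) * σ (r t)) →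
      ∀ t, act σ e g t = j t ∧ σ (lift σ e R hR g t) = σ (r t) := by
    intro g j r hr t
    have h1 : act σ e g t = j t := by
      rw [act, Equiv.symm_apply_eq, ← hR, ← hR, MulAction.Quotient.smul_coe, smul_eq_mul, hr,
        QuotientGroup.eq, mul_inv_rev, mul_assoc, inv_mul_cancel, mul_one]
      exact inv_mem ⟨r t, rfl⟩
    refine ⟨h1, ?_⟩
    rw [lift_spec, h1, hr, inv_mul_cancel_left]
  have hx := hact x jx p hp
  have hy := hact y jy q hq
  let a : Fin n → σ.ker := fun t => ⟨p t * (lift σ e R hR x t)⁻¹, by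
    rw [MonoidHom.mem_ker, map_mul, map_inv, (hx t).2, mul_inv_cancel]⟩
  let b : Fin n → σ.ker := fun t => ⟨q t * (lift σ e R hR y t)⁻¹, by
    rw [MonoidHom.mem_ker, map_mul, map_inv, (hy t).2, mul_inv_cancel]⟩
  have hfac : ∀ t, κ t * b (act σ e x t) * a t * factor σ e R hR y x t =
      a (act σ e y t) * b t * factor σ e R hR x y t := by
    intro t
    refine Subtype.ext ?_
    have h := hκ t
    rw [← (hx t).1, ← (hy t).1] at h
    simp only [Subgroup.coe_mul, factor]
    have hap : ∀ s, p s = (a s : Γ) * lift σ e R hR x s := fun s => (inv_mul_cancel_right _ _).symm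
    have hbq : ∀ s, q s = (b s : Γ) * lift σ e R hR y s := fun s => (inv_mul_cancel_right _ _).symm
    rw [hap, hbq, hbq, hap] at h
    have hcen : ∀ (z : σ.ker) (w : Γ), w * (z : Γ) = (z : Γ) * w := fun z =>
      Subgroup.mem_center_iff.1 (hc z.2)
    generalize lift σ e R hR x (act σ e y t) = A, lift σ e R hR y t = B,
      lift σ e R hR y (act σ e x t) = B', lift σ e R hR x t = A' at h ⊢
    rw [show lift σ e R hR (y * x) t = lift σ e R hR (x * y) t by rw [hxy]]
    generalize lift σ e R hR (x * y) t = C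
    calc (κ t : Γ) * b (act σ e x t) * a t * (B' * A' * C⁻¹)
        = (κ t : Γ) * b (act σ e x t) * ((a t : Γ) * B') * A' * C⁻¹ := by group
      _ = (κ t : Γ) * (((b (act σ e x t) : Γ) * B') * ((a t : Γ) * A')) * C⁻¹ := by
          rw [← hcen (a t) B']; group
      _ = (((a (act σ e y t) : Γ) * A) * ((b t : Γ) * B)) * C⁻¹ := by rw [h]
      _ = (a (act σ e y t) : Γ) * (A * (b t : Γ)) * B * C⁻¹ := by group
      _ = _ := by rw [hcen (b t) A]; group
  have hprod : (∏ t, κ t) = c.F x y * (c.F y x)⁻¹ := by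
    rw [eq_mul_inv_iff_mul_eq]
    show (∏ t, κ t) * (∏ t, factor σ e R hR y x t) = ∏ t, factor σ e R hR x y t
    have h := Finset.prod_congr (s₁ := Finset.univ) rfl fun t _ => hfac t
    simp only [Finset.prod_mul_distrib] at h
    rw [show (∏ t, b (act σ e x t)) = ∏ t, b t from Equiv.prod_comp (actEquiv σ e x) b,
      show (∏ t, a (act σ e y t)) = ∏ t, a t from Equiv.prod_comp (actEquiv σ e y) a] at h
    refine mul_left_cancel (a := (∏ t, a t) * ∏ t, b t) ?_
    rw [← h]
    ac_rfl
  refine ⟨CExt c, inferInstance, inferInstance, CExt.proj,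
    ⟨CExt.proj_surjective, CExt.ker_le_center, ?_⟩,
    ⟨(MonoidHom.ofInjective CExt.incl_injective).trans (MulEquiv.subgroupCongr CExt.ker_proj.symm)⟩⟩
  intro z hz
  rw [CExt.ker_proj] at hz
  obtain ⟨k, rfl⟩ := hz
  have hk : k ∈ Subgroup.zpowers (∏ t, κ t) := hgen ▸ Subgroup.mem_top k
  obtain ⟨i, rfl⟩ := Subgroup.mem_zpowers_iff.1 hk
  rw [map_zpow, hprod, ← CExt.commutator_mk (c := c) hxy]
  exact Subgroup.zpow_mem _ (Subgroup.commutator_mem_commutator (Subgroup.mem_top _) (Subgroup.mem_top _)) _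

end transfer

end Cfsg.Agent.PcCover
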