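/-
Stem extensions from a permutation model of a central extension of a pc subgroup and coset data.

Main result: `exists_stem_of_data`.
-/
import Cfsg.Agent.Lib.PcCover.Collect
import Cfsg.Agent.Lib.PcCover.Transfer

set_option autoImplicit false
set_option linter.style.haveILetI false

open scoped commutatorElement

namespace Cfsg.Agent.PcCover

/-- Data of the base extension. -/
structure BaseCert where
  /-- Number of generators. -/
  n : ℕ
  /-- The rules. -/
  rules : Rules
  /-- The tails as powers of the central element. -/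
  phi : List ℕ
  /-- The elements. -/
  elems : List (List ℕ)
  /-- The order of the central element. -/
  m : ℕ

namespace BaseCert

variable (C : BaseCert)

/-- The checks. -/
def check (eqw : List ℕ → List ℕ → Bool) : Bool :=
  (C.rules.all fun r => eqw r.1 r.2 && r.1.all (fun i => decide (i < C.n)) &&
    r.2.all (fun i => decide (i < C.n))) &&
  C.elems.contains [] &&
  (C.elems.all fun l => l.all (fun i => decide (i < C.n))) &&
  (C.elems.all fun l => (List.range C.n).all fun i => C.elems.contains (collect C.rules (l ++ [i])).1) &&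
  ((List.range C.elems.length).all fun i => (List.range i).all fun j =>
    !eqw (C.elems.getD i []) (C.elems.getD j []))

end BaseCert

/-- The exponent of the central element in a tail vector. -/
def dotV : List ℕ → List ℤ → ℤ
  | [], _ => 0
  | _, [] => 0
  | e :: es, a :: v => (e : ℤ) * a + dotV es v

/-- The sum of the tail differences of the commutator terms. -/
def termV (R : Rules) (uw vw : ℕ → List ℕ) (jx jy : ℕ → ℕ) (i : ℕ) : List ℤ :=
  subV (collect R (uw (jy i) ++ vw i)).2 (collect R (vw (jx i) ++ uw i)).2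

/-- The terms are comparable. -/
def termOk (R : Rules) (uw vw : ℕ → List ℕ) (jx jy : ℕ → ℕ) (i : ℕ) : Bool :=
  (collect R (uw (jy i) ++ vw i)).1 == (collect R (vw (jx i) ++ uw i)).1

section

variable {G : Type} [Group G] [Finite G] {α : Type} [DecidableEq α] [Finite α]

open scoped Classical in
/-- The model group. -/
noncomputable def model (n : ℕ) (g : ℕ → G) (A : ℕ → Equiv.Perm α) (z : Equiv.Perm α) :
    Subgroup (Equiv.Perm α × G) :=
  Subgroup.closure ({x | ∃ i < n, x = (A i, g i)} ∪ {(z, 1)})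

theorem exists_stem_of_data (C : BaseCert) (g : ℕ → G) (eqw : List ℕ → List ℕ → Bool)
    (heqw : ∀ u w, eqw u w = true ↔ wp g u = wp g w) (h : C.check eqw = true)
    (A : ℕ → Equiv.Perm α) (z : Equiv.Perm α) (hz : ∀ i < C.n, A i * z = z * A i)
    (hzm : orderOf z = C.m)
    (hA : ∀ k < C.rules.length, ∀ x, wp A (C.rules.getD k ([], [])).1 x =
      (wp A (C.rules.getD k ([], [])).2 * z ^ C.phi.getD k 0) x)
    (hphi : C.phi.length = C.rules.length)
    {N : ℕ} (R : Fin N → G) (Φ : G → ℕ) (hΦ : ∀ a : G, ∀ i < C.n, Φ (a * g i) = Φ a)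
    (hinj : Function.Injective (Φ ∘ R)) (hcard : Nat.card G = N * C.elems.length)
    (x y : G) (hxy : x * y = y * x) (jx jy : ℕ → ℕ) (uw vw : ℕ → List ℕ)
    (hjx : ∀ i : Fin N, jx i < N) (hjy : ∀ i : Fin N, jy i < N)
    (huw : ∀ i : Fin N, ∀ d ∈ uw i, d < C.n) (hvw : ∀ i : Fin N, ∀ d ∈ vw i, d < C.n)
    (hx : ∀ i : Fin N, x * R i = R ⟨jx i, hjx i⟩ * wp g (uw i))
    (hy : ∀ i : Fin N, y * R i = R ⟨jy i, hjy i⟩ * wp g (vw i))
    (hterm : (List.range N).all (termOk C.rules uw vw jx jy) = true)
    (tot : List ℤ) (htot : zeroV (subV ((List.range N).foldr (fun i v => addV (termV C.rules uw vw jx jy i) v) []) tot) = true)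
    (einv : ℤ) (hgen : ((C.m : ℤ) ∣ dotV C.phi tot * einv - 1)) :
    ∃ (Γ : Type) (_ : Group Γ) (_ : Finite Γ) (σ : Γ →* G),
      Cfsg.IsStemExtension σ ∧ IsCyclic σ.ker ∧ Nat.card σ.ker = C.m := by
  classical
  simp only [BaseCert.check, Bool.and_eq_true, List.all_eq_true, List.mem_range, decide_eq_true_eq,
    Bool.not_eq_true'] at h
  obtain ⟨⟨⟨⟨hrules, hone⟩, helt⟩, hclosed⟩, hnodup⟩ := h
  let P := model C.n g A z
  let σ : P →* G := (MonoidHom.snd _ _).comp P.subtype
  let a : ℕ → P := fun i =>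
    if hi : i < C.n then ⟨(A i, g i), Subgroup.subset_closure (Or.inl ⟨i, hi, rfl⟩)⟩ else 1
  have ha : ∀ {w : List ℕ}, (∀ d ∈ w, d < C.n) → ((wp a w : P) : Equiv.Perm α × G) = (wp A w, wp g w) := by
    intro w hw
    induction w with
    | nil => rfl
    | cons d w ih =>
      rw [wp_cons, wp_cons, wp_cons, Subgroup.coe_mul, ih fun e he => hw e (List.mem_cons_of_mem _ he)]
      simp only [a, dif_pos (hw d List.mem_cons_self)]
      rfl
  let z0 : P := ⟨(z, 1), Subgroup.subset_closure (Or.inr rfl)⟩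
  have hz0 : z0 ∈ Subgroup.center P := by
    rw [Subgroup.mem_center_iff]
    intro p
    have hle : P ≤ Subgroup.centralizer {((z, 1) : Equiv.Perm α × G)} := by
      show Subgroup.closure _ ≤ _
      rw [Subgroup.closure_le]
      rintro _ (⟨i, hi, rfl⟩ | h)
      · refine Subgroup.mem_centralizer_singleton_iff.2 (Prod.ext (hz i hi) ?_)
        show g i * 1 = 1 * g i
        rw [one_mul, mul_one]
      · rw [h]
        exact Subgroup.mem_centralizer_singleton_iff.2 rfl
    exact Subtype.ext (Subgroup.mem_centralizer_singleton_iff.1 (hle p.2))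
  let zc : Subgroup.center P := ⟨z0, hz0⟩
  let ts : List (Subgroup.center P) := C.phi.map (zc ^ ·)
  have hlet : ∀ r ∈ C.rules, (∀ d ∈ r.1, d < C.n) ∧ ∀ d ∈ r.2, d < C.n := fun r hr =>
    ⟨(hrules r hr).1.2, (hrules r hr).2⟩
  have hR : RulesHold a ts C.rules := by
    intro k r hr
    have hk : k < C.rules.length := (List.getElem?_eq_some_iff.1 hr).1
    have hgd : C.rules.getD k ([], []) = r := by rw [List.getD_eq_getElem?_getD, hr]; rfl
    have hts : ts.getD k 1 = zc ^ C.phi.getD k 0 := by
      simp only [ts, List.getD_eq_getElem?_getD, List.getElem?_map]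
      rw [List.getElem?_eq_getElem (hphi ▸ hk)]
      rfl
    have hl := hlet r (List.mem_of_getElem? hr)
    refine Subtype.ext ?_
    rw [hts, Subgroup.coe_mul, ha hl.1, ha hl.2, SubgroupClass.coe_pow, SubgroupClass.coe_pow]
    refine Prod.ext ?_ ?_
    · exact Equiv.ext fun p => hgd ▸ hA k hk p
    · show wp g r.1 = wp g r.2 * 1 ^ C.phi.getD k 0
      rw [one_pow, mul_one]
      exact (heqw _ _).1 (hrules r (List.mem_of_getElem? hr)).1.1
  have hdot : ∀ (es : List ℕ) (v : List ℤ), val (es.map (zc ^ ·)) v = zc ^ dotV es v := by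
    intro es
    induction es with
    | nil => intro v; show val [] v = _; rw [dotV, zpow_zero]; cases v <;> rfl
    | cons e es ih =>
      intro v
      cases v with
      | nil => show val _ [] = _; rw [val_nil, dotV, zpow_zero]; simp
      | cons b v =>
        show (zc ^ e) ^ b * val (es.map (zc ^ ·)) v = zc ^ ((e : ℤ) * b + dotV es v)
        rw [ih v, zpow_add, zpow_mul, zpow_natCast]
  have hz0σ : ∀ j : ℤ, σ (z0 ^ j) = 1 := fun j => by
    rw [map_zpow, show σ z0 = 1 from rfl, one_zpow]
  have hσv : ∀ v, σ (val ts v : P) = 1 := fun v => by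
    rw [hdot, SubgroupClass.coe_zpow]; exact hz0σ _
  -- normal forms
  have hform : ∀ p : P, ∃ l ∈ C.elems, ∃ j : ℤ, p = wp a l * z0 ^ j := by
    intro p
    obtain ⟨q, hq⟩ := p
    have hq' : q ∈ Submonoid.closure ({x | ∃ i < C.n, x = (A i, g i)} ∪ {(z, 1)}) := by
      have : (q : Equiv.Perm α × G) ∈ (model C.n g A z).toSubmonoid := hq
      rwa [model, Subgroup.closure_toSubmonoid_of_finite] at this
    suffices hs : ∃ l ∈ C.elems, ∃ j : ℤ, q = ((wp a l * z0 ^ j : P) : Equiv.Perm α × G) by
      obtain ⟨l, hl, j, e⟩ := hs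
      exact ⟨l, hl, j, Subtype.ext e⟩
    clear hq
    induction hq' using Submonoid.closure_induction_right with
    | one => exact ⟨[], List.contains_iff_mem.1 hone, 0, by rw [wp_nil, zpow_zero, mul_one]; rfl⟩
    | mul_right u _ w hw ih =>
      obtain ⟨l, hl, j, rfl⟩ := ih
      rcases hw with ⟨i, hi, rfl⟩ | hw
      · refine ⟨_, List.contains_iff_mem.1 (hclosed l hl i hi), dotV C.phi (collect C.rules (l ++ [i])).2 + j, ?_⟩
        have hai : ((a i : P) : Equiv.Perm α × G) = (A i, g i) := by simp only [a, dif_pos hi]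
        rw [← hai, ← Subgroup.coe_mul]
        refine congrArg Subtype.val ?_
        rw [mul_assoc, ← (Subgroup.mem_center_iff.1 (Subgroup.zpow_mem _ hz0 j)) (a i), ← mul_assoc,
          show wp a l * a i = wp a (l ++ [i]) by rw [wp_append, wp_single], collect_sound hR (l ++ [i]),
          hdot, SubgroupClass.coe_zpow, mul_assoc, ← zpow_add]
      · rw [hw]
        refine ⟨l, hl, j + 1, ?_⟩
        rw [zpow_add, zpow_one, ← mul_assoc, Subgroup.coe_mul (model C.n g A z) (wp a l * z0 ^ j) z0]
  have hσw : ∀ {w : List ℕ}, (∀ d ∈ w, d < C.n) → σ (wp a w) = wp g w := fun hw => by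
    show ((wp a _ : P) : Equiv.Perm α × G).2 = _
    rw [ha hw]
  have hkey : ∀ i j : Fin C.elems.length, j < i → wp g (C.elems.get i) ≠ wp g (C.elems.get j) := by
    intro i j hlt he
    have hn := hnodup i.val i.isLt j.val hlt
    rw [← heqw] at he
    simp [List.getD_eq_getElem?_getD] at hn
    simp [hn] at he
  have hkinj : ∀ i j : Fin C.elems.length, wp g (C.elems.get i) = wp g (C.elems.get j) → i = j := by
    intro i j e
    rcases lt_trichotomy i j with h | h | h
    · exact absurd e.symm (hkey j i h)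
    · exact h
    · exact absurd e (hkey i j h)
  have hker : ∀ p : P, p ∈ σ.ker ↔ p ∈ Subgroup.zpowers z0 := by
    intro p
    refine ⟨fun hp => ?_, ?_⟩
    · obtain ⟨l, hl, j, rfl⟩ := hform p
      rw [MonoidHom.mem_ker, map_mul, hz0σ, mul_one, hσw (helt l hl)] at hp
      obtain ⟨i, hi⟩ := List.get_of_mem hl
      obtain ⟨i0, hi0⟩ := List.get_of_mem (List.contains_iff_mem.1 hone)
      have := hkinj i i0 (by rw [hi, hi0]; exact hp)
      rw [this, hi0] at hi
      rw [← hi, wp_nil, one_mul]
      exact zpow_mem (Subgroup.mem_zpowers z0) j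
    · rintro ⟨j, rfl⟩
      exact hz0σ j
  have hc : σ.ker ≤ Subgroup.center P := fun p hp => by
    obtain ⟨j, rfl⟩ := (hker p).1 hp
    exact Subgroup.zpow_mem _ hz0 j
  have hkereq : σ.ker = Subgroup.zpowers z0 := Subgroup.ext hker
  have hcardker : Nat.card σ.ker = C.m := by
    rw [hkereq, Nat.card_zpowers, ← Subgroup.orderOf_coe z0]
    show orderOf ((z, 1) : Equiv.Perm α × G) = C.m
    rw [Prod.orderOf, orderOf_one, Nat.lcm_one_right, hzm]
  -- the cosets
  have hrange : σ.range = Subgroup.closure {b | ∃ i < C.n, b = g i} := by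
    refine le_antisymm ?_ ((Subgroup.closure_le _).2 ?_)
    · rintro _ ⟨p, rfl⟩
      obtain ⟨l, hl, j, rfl⟩ := hform p
      rw [map_mul, hz0σ, mul_one, hσw (helt l hl)]
      exact Subgroup.list_prod_mem _ fun w hw => by
        obtain ⟨i, hi, rfl⟩ := List.mem_map.1 hw
        exact Subgroup.subset_closure ⟨i, helt l hl i hi, rfl⟩
    · rintro _ ⟨i, hi, rfl⟩
      exact ⟨a i, by simp only [a, dif_pos hi]; rfl⟩
  have hcardR : Nat.card σ.range = C.elems.length := by
    let f : Fin C.elems.length → σ.range := fun i => ⟨σ (wp a (C.elems.get i)), ⟨_, rfl⟩⟩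
    refine ((Nat.card_congr (Equiv.ofBijective f ⟨fun i j e => hkinj i j ?_, fun q => ?_⟩)).symm).trans
      (Nat.card_fin _)
    · have e' := congrArg Subtype.val e
      simp only [f] at e'
      rwa [hσw (helt _ (List.get_mem _ _)), hσw (helt _ (List.get_mem _ _))] at e'
    · obtain ⟨p, hp⟩ := q.2
      obtain ⟨l, hl, j, rfl⟩ := hform p
      obtain ⟨i, hi⟩ := List.get_of_mem hl
      exact ⟨i, Subtype.ext (by simp only [f]; rw [hi, ← hp, map_mul, hz0σ, mul_one])⟩
  have hΦ' : ∀ (b : G) (q : G), q ∈ σ.range → Φ (b * q) = Φ b := by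
    intro b q hq
    rw [hrange, ← Subgroup.mem_toSubmonoid, Subgroup.closure_toSubmonoid_of_finite] at hq
    induction hq using Submonoid.closure_induction_right with
    | one => rw [mul_one]
    | mul_right u _ w hw ih =>
      obtain ⟨i, hi, rfl⟩ := hw
      rw [← mul_assoc, hΦ _ i hi, ih]
  have hidx : σ.range.index = N := by
    have e := σ.range.card_mul_index
    rw [hcardR, hcard, mul_comm N] at e
    have hpos : 0 < C.elems.length := hcardR ▸ Nat.card_pos
    exact Nat.eq_of_mul_eq_mul_left hpos e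
  have hbij : Function.Bijective fun t : Fin N => (R t : G ⧸ σ.range) := by
    refine (Nat.bijective_iff_injective_and_card _).2 ⟨fun s t e => hinj ?_, ?_⟩
    · have := QuotientGroup.eq.1 e
      show Φ (R s) = Φ (R t)
      rw [← hΦ' (R s) _ this, mul_inv_cancel_left]
    · rw [Nat.card_fin]; exact hidx.symm
  let e := Equiv.ofBijective _ hbij
  letI := kerComm σ hc
  have hterms : ∀ i : Fin N, ∀ {w : List ℕ}, w = uw i ∨ w = vw i → ∀ d ∈ w, d < C.n := by
    intro i w hw
    rcases hw with rfl | rfl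
    exacts [huw i, hvw i]
  let κ : Fin N → σ.ker := fun i =>
    ⟨(val ts (termV C.rules uw vw jx jy i) : P), (hσv _)⟩
  have hκ : ∀ i : Fin N, wp a (uw (jy i)) * wp a (vw i) = (κ i : P) * (wp a (vw (jx i)) * wp a (uw i)) := by
    intro i
    have hok : termOk C.rules uw vw jx jy i = true := List.all_eq_true.1 hterm i.val (List.mem_range.2 i.isLt)
    rw [termOk, beq_iff_eq] at hok
    rw [← wp_append, ← wp_append, collect_sound hR (uw (jy i) ++ vw i),
      collect_sound hR (vw (jx i) ++ uw i), hok]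
    show _ = (val ts (termV C.rules uw vw jx jy i) : P) * _
    rw [← mul_assoc, ← comm_val ts (termV C.rules uw vw jx jy i), mul_assoc, ← Subgroup.coe_mul, termV, val_sub,
      inv_mul_cancel_right]
  have hprod : ((∏ i, κ i : σ.ker) : P) = z0 ^ dotV C.phi tot := by
    have h1 : ∀ l : List ℕ, (val ts (l.foldr (fun i v => addV (termV C.rules uw vw jx jy i) v) []) : P) =
        (l.map fun i => (val ts (termV C.rules uw vw jx jy i) : P)).prod := by
      intro l
      induction l with
      | nil => rw [List.foldr_nil, val_nil]; rfl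
      | cons i l ih => rw [List.foldr_cons, val_add, Subgroup.coe_mul, ih, List.map_cons, List.prod_cons]
    have h2 : val ts ((List.range N).foldr (fun i v => addV (termV C.rules uw vw jx jy i) v) []) = val ts tot := by
      have := val_zero ts _ htot
      rwa [val_sub, mul_inv_eq_one] at this
    have h3 := h1 (List.range N)
    rw [h2, hdot, SubgroupClass.coe_zpow] at h3
    rw [show (((zc : Subgroup.center P) : P)) = z0 from rfl] at h3
    rw [h3, ← List.prod_ofFn, SubmonoidClass.coe_list_prod, List.map_ofFn, ← List.map_coe_finRange_eq_range,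
      List.map_map, List.ofFn_eq_map]
    rfl
  have hgen' : Subgroup.zpowers (∏ i, κ i) = ⊤ := by
    refine eq_top_iff.2 fun w _ => ?_
    obtain ⟨j, hj⟩ := (hker w.1).1 w.2
    obtain ⟨d, hd⟩ := hgen
    refine Subgroup.mem_zpowers_iff.2 ⟨einv * j, Subtype.ext ?_⟩
    rw [SubgroupClass.coe_zpow, hprod, ← zpow_mul]
    have hord : z0 ^ (C.m : ℤ) = 1 := by
      rw [zpow_natCast, ← hcardker, hkereq, Nat.card_zpowers, pow_orderOf_eq_one]
    rw [show dotV C.phi tot * (einv * j) = j + (C.m : ℤ) * (d * j) by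
      rw [← mul_assoc, show dotV C.phi tot * einv = 1 + (C.m : ℤ) * d by rw [← hd]; ring]; ring,
      zpow_add, zpow_mul, hord, one_zpow, mul_one]
    exact hj
  obtain ⟨Γ, hΓ, hfin, τ, hτ, ⟨eκ⟩⟩ := exists_stem_of_transfer σ e R (fun _ => rfl) hc x y hxy
    (fun i => ⟨jx i, hjx i⟩) (fun i => ⟨jy i, hjy i⟩) (fun i => wp a (uw i)) (fun i => wp a (vw i))
    (fun i => by rw [hσw (huw i)]; exact hx i) (fun i => by rw [hσw (hvw i)]; exact hy i) κ
    (fun i => hκ i) hgen'
  haveI : IsCyclic σ.ker := hkereq ▸ Subgroup.isCyclic_zpowers z0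
  exact ⟨Γ, hΓ, hfin, τ, hτ, isCyclic_of_surjective eκ eκ.surjective,
    by rw [← Nat.card_congr eκ.toEquiv, hcardker]⟩

end

end Cfsg.Agent.PcCover
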