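/-
Stem extensions of subgroups of M24 from coded coset data.

Main results: `exists_stem_of_table`, `eqWord_iff`.
-/
import Cfsg.Agent.Lib.PcCover.Base
import Cfsg.Agent.Lib.Multiplier.MathieuCert
import Cfsg.Agent.Lib.Golay.Dodecad

set_option autoImplicit false
open scoped Pointwise
open Cfsg

namespace Cfsg.Agent.PcCover

open Cfsg.Agent.Golay Cfsg.Agent.Multiplier

variable {ok : ℕ → Bool} {Gs : Subgroup (Equiv.Perm GolayPt)}
  (hok : ∀ d, ok d = true → validPerm d = true ∧ toPerm d ∈ Gs)

/-- The code of a letter. -/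
def code (gens : List ℕ) (i : ℕ) : ℕ := gens.getD i (gens.headD 0)

/-- The element of a letter. -/
noncomputable def letter (gens : List ℕ) (i : ℕ) : Gs := MathieuCert.el hok (code gens i)

/-- Equality of the values of two words. -/
def eqWord (gens : List ℕ) (u w : List ℕ) : Bool :=
  MathieuCert.eqW (u.map (code gens)) (w.map (code gens))

theorem code_ok {gens : List ℕ} (hne : gens.isEmpty = false) (hgens : gens.all ok = true) (i : ℕ) :
    ok (code gens i) = true := by
  rw [List.all_eq_true] at hgens
  refine hgens _ ?_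
  rw [code]
  rcases lt_or_ge i gens.length with h | h
  · rw [List.getD_eq_getElem _ _ h]; exact List.getElem_mem h
  · rw [List.getD_eq_default _ _ h]
    cases gens with
    | nil => simp at hne
    | cons x r => exact List.mem_cons_self

theorem word_map (gens : List ℕ) (l : List ℕ) :
    MathieuCert.word hok (l.map (code gens)) = wp (letter hok gens) l := by
  rw [MathieuCert.word, List.map_map]
  rfl

theorem eqWord_iff {gens : List ℕ} (hne : gens.isEmpty = false) (hgens : gens.all ok = true) (u w : List ℕ) :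
    eqWord gens u w = true ↔ wp (letter hok gens) u = wp (letter hok gens) w := by
  have hall : ∀ l : List ℕ, ∀ d ∈ l.map (code gens), ok d = true := by
    intro l d hd
    obtain ⟨i, -, rfl⟩ := List.mem_map.1 hd
    exact code_ok hne hgens i
  rw [eqWord, ← MathieuCert.word_eq_iff hok (hall u) (hall w), word_map, word_map]

/-- The key of a permutation for unordered pairs of masks. -/
def keyOf (f : ℕ → ℕ) : List (ℕ × ℕ) → ℕ
  | [] => 0
  | p :: K => (keyOf f K * 16777216 + min (f p.1) (f p.2)) * 16777216 + max (f p.1) (f p.2)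

/-- A row: representative, images and words for `x` and for `y`. -/
abbrev Row := ℕ × ℕ × List ℕ × ℕ × List ℕ

/-- Coset data. -/
structure Table where
  /-- Codes of the letters. -/
  gens : List ℕ
  /-- Number of generators of the subgroup. -/
  n : ℕ
  /-- The pairs of masks. -/
  masks : List (ℕ × ℕ)
  /-- The first commuting element. -/
  x : ℕ
  /-- The second commuting element. -/
  y : ℕ
  /-- The rows in blocks. -/
  rows : List (List Row)
  /-- The block length. -/
  blk : ℕ
  /-- The number of rows. -/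
  size : ℕ
  /-- The total tail vector. -/
  tot : List ℤ

namespace Table

variable (T : Table)

/-- A row. -/
def row (i : ℕ) : Row := (T.rows.getD (i / T.blk) []).getD (i % T.blk) (0, 0, [], 0, [])

/-- The representative. -/
def rep (i : ℕ) : ℕ := (T.row i).1

/-- The image index under `x`. -/
def jx (i : ℕ) : ℕ := (T.row i).2.1

/-- The word for `x`. -/
def uw (i : ℕ) : List ℕ := (T.row i).2.2.1

/-- The image index under `y`. -/
def jy (i : ℕ) : ℕ := (T.row i).2.2.2.1

/-- The word for `y`. -/
def vw (i : ℕ) : List ℕ := (T.row i).2.2.2.2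

/-- The check of a row. -/
def rowOk (ok : ℕ → Bool) (R : Rules) (i : ℕ) : Bool :=
  ok (T.rep i) && decide (T.jx i < T.size) && decide (T.jy i < T.size) &&
    (T.uw i).all (fun d => decide (d < T.n)) && (T.vw i).all (fun d => decide (d < T.n)) &&
    MathieuCert.eqW [T.x, T.rep i] (T.rep (T.jx i) :: (T.uw i).map (code T.gens)) &&
    MathieuCert.eqW [T.y, T.rep i] (T.rep (T.jy i) :: (T.vw i).map (code T.gens)) &&
    (decide (T.size ≤ i + 1) ||
      Nat.blt (keyOf (imgMask (T.rep i)) T.masks) (keyOf (imgMask (T.rep (i + 1))) T.masks)) &&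
    termOk R T.uw T.vw T.jx T.jy i

/-- The other checks. -/
def baseOk (ok : ℕ → Bool) (R : Rules) : Bool :=
  !T.gens.isEmpty && T.gens.all ok && ok T.x && ok T.y && MathieuCert.eqW [T.x, T.y] [T.y, T.x] &&
    (T.masks.all fun p => decide (p.1 < 16777216) && decide (p.2 < 16777216)) &&
    ((List.range T.n).all fun i => T.masks.all fun p =>
      (imgMask (code T.gens i) p.1 == p.1 && imgMask (code T.gens i) p.2 == p.2) ||
        (imgMask (code T.gens i) p.1 == p.2 && imgMask (code T.gens i) p.2 == p.1)) &&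
    zeroV (subV ((List.range T.size).foldr (fun i v => addV (termV R T.uw T.vw T.jx T.jy i) v) []) T.tot)

end Table

theorem keyOf_congr {f f' : ℕ → ℕ} : ∀ {K : List (ℕ × ℕ)},
    (∀ p ∈ K, (f p.1 = f' p.1 ∧ f p.2 = f' p.2) ∨ (f p.1 = f' p.2 ∧ f p.2 = f' p.1)) →
      keyOf f K = keyOf f' K
  | [], _ => rfl
  | p :: K, h => by
    rw [keyOf, keyOf, keyOf_congr fun q hq => h q (List.mem_cons_of_mem _ hq)]
    rcases h p List.mem_cons_self with ⟨h1, h2⟩ | ⟨h1, h2⟩
    · rw [h1, h2]
    · rw [h1, h2, min_comm, max_comm]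

include hok in
/-- A checked table gives a stem extension with cyclic kernel of order `C.m`. -/
theorem exists_stem_of_table {α : Type} [DecidableEq α] [Finite α] (C : BaseCert) (T : Table)
    (hn : C.n = T.n) (hcard : Nat.card Gs = T.size * C.elems.length)
    (hC : C.check (eqWord T.gens) = true) (hB : T.baseOk ok C.rules = true)
    (hrows : ∀ i < T.size, T.rowOk ok C.rules i = true)
    (A : ℕ → Equiv.Perm α) (z : Equiv.Perm α) (hz : ∀ i < C.n, A i * z = z * A i)
    (hzm : orderOf z = C.m)
    (hA : ∀ k < C.rules.length, ∀ x, wp A (C.rules.getD k ([], [])).1 x =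
      (wp A (C.rules.getD k ([], [])).2 * z ^ C.phi.getD k 0) x)
    (hphi : C.phi.length = C.rules.length)
    (einv : ℤ) (hgen : ((C.m : ℤ) ∣ dotV C.phi T.tot * einv - 1)) :
    ∃ (Γ : Type) (_ : Group Γ) (_ : Finite Γ) (σ : Γ →* Gs),
      Cfsg.IsStemExtension σ ∧ IsCyclic σ.ker ∧ Nat.card σ.ker = C.m := by
  simp only [Table.baseOk, Bool.and_eq_true, Bool.not_eq_true', List.all_eq_true, List.mem_range,
    decide_eq_true_eq, Bool.or_eq_true, beq_iff_eq] at hB
  obtain ⟨⟨⟨⟨⟨⟨⟨hne, hgens'⟩, hxo⟩, hyo⟩, hxy⟩, hmlt⟩, hinv⟩, htot⟩ := hB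
  have hgens : T.gens.all ok = true := List.all_eq_true.2 hgens'
  have hrow : ∀ i : Fin T.size, _ := fun i => hrows i.val i.isLt
  simp only [Table.rowOk, Bool.and_eq_true, decide_eq_true_eq, List.all_eq_true, Bool.or_eq_true,
    Nat.blt_eq] at hrow
  let Φ : Gs → ℕ := fun g => keyOf (fun mk => maskOf ((g : Equiv.Perm GolayPt) • pts mk)) T.masks
  have hel : ∀ {d}, ok d = true → ((MathieuCert.el hok d : Gs) : Equiv.Perm GolayPt) = toPerm d :=
    fun {d} hd => by rw [MathieuCert.el, dif_pos hd]
  have himg : ∀ {d}, ok d = true → ∀ mk, pts (imgMask d mk) = toPerm d • pts mk := fun hd mk =>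
    pts_imgMask (hok _ hd).1 mk
  have hΦrep : ∀ {d}, ok d = true → Φ (MathieuCert.el hok d) = keyOf (imgMask d) T.masks := by
    intro d hd
    refine keyOf_congr fun p hp => Or.inl ?_
    have hlt : ∀ mk, imgMask d mk < 16777216 := fun mk => by
      have := Golay.imgMask_lt (hok _ hd).1 mk
      simpa using this
    simp only [hel hd, ← himg hd]
    exact ⟨maskOf_pts (hlt _), maskOf_pts (hlt _)⟩
  have hΦ : ∀ a : Gs, ∀ i < C.n, Φ (a * letter hok T.gens i) = Φ a := by
    intro a i hi
    refine keyOf_congr fun p hp => ?_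
    have hc := code_ok hne hgens i
    simp only [Subgroup.coe_mul, mul_smul, letter, hel hc, ← himg hc]
    rcases hinv i (hn ▸ hi) p hp with ⟨h1, h2⟩ | ⟨h1, h2⟩
    · exact Or.inl ⟨by rw [h1], by rw [h2]⟩
    · exact Or.inr ⟨by rw [h1], by rw [h2]⟩
  let R : Fin T.size → Gs := fun i => MathieuCert.el hok (T.rep i)
  have hro : ∀ i : Fin T.size, ok (T.rep i) = true := fun i => (hrow i).1.1.1.1.1.1.1.1
  have hmono : StrictMono (Φ ∘ R) := by
      intro i j hij
      have key : ∀ j : ℕ, ∀ (hj : j < T.size), i.val < j →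
          keyOf (imgMask (T.rep i)) T.masks < keyOf (imgMask (T.rep j)) T.masks := by
        intro j
        induction j with
        | zero => intro _ h; omega
        | succ j ih =>
          intro hj h
          have hstep := ((hrow ⟨j, by omega⟩).1.2).resolve_left (by simp only; omega)
          rcases Nat.lt_succ_iff_lt_or_eq.1 h with h' | h'
          · exact (ih (by omega) h').trans hstep
          · rw [h']; exact hstep
      simp only [Function.comp_apply, R, hΦrep (hro _)]
      exact key j j.isLt hij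
  have hxy' : MathieuCert.el hok T.x * MathieuCert.el hok T.y = MathieuCert.el hok T.y * MathieuCert.el hok T.x := by
    have := (MathieuCert.word_eq_iff hok (l := [T.x, T.y]) (r := [T.y, T.x]) (by simp [hxo, hyo])
      (by simp [hxo, hyo])).2 hxy
    simpa [MathieuCert.word_cons, MathieuCert.word_nil] using this
  have hstep : ∀ (c : ℕ), ok c = true → ∀ (i j : Fin T.size) (w : List ℕ),
      MathieuCert.eqW [c, T.rep i] (T.rep j :: w.map (code T.gens)) = true →
      MathieuCert.el hok c * R i = R j * wp (letter hok T.gens) w := by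
    intro c hc i j w h
    have h' := (MathieuCert.word_eq_iff hok (by simp [hc, hro i]) (fun d hd => by
      rcases List.mem_cons.1 hd with rfl | hd
      · exact hro j
      · obtain ⟨k, -, rfl⟩ := List.mem_map.1 hd
        exact code_ok hne hgens k)).2 h
    rw [MathieuCert.word_cons, MathieuCert.word_cons, MathieuCert.word_nil, mul_one,
      MathieuCert.word_cons, word_map] at h'
    exact h'
  exact exists_stem_of_data C (letter hok T.gens) (eqWord T.gens) (eqWord_iff hok hne hgens) hC A z hz hzm hA
    hphi R Φ hΦ hmono.injective hcard _ _ hxy' T.jx T.jy T.uw T.vw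
    (fun i => (hrow i).1.1.1.1.1.1.1.2) (fun i => (hrow i).1.1.1.1.1.1.2)
    (fun i d hd => hn ▸ (hrow i).1.1.1.1.1.2 d hd) (fun i d hd => hn ▸ (hrow i).1.1.1.1.2 d hd)
    (fun i => hstep T.x hxo i ⟨_, (hrow i).1.1.1.1.1.1.1.2⟩ _ (hrow i).1.1.1.2)
    (fun i => hstep T.y hyo i ⟨_, (hrow i).1.1.1.1.1.1.2⟩ _ (hrow i).1.1.2)
    (List.all_eq_true.2 fun i hi => (hrow ⟨i, List.mem_range.1 hi⟩).2)
    T.tot htot einv hgen

end Cfsg.Agent.PcCover
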