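/-
Corestricted extensions with the commutators of several commuting pairs.

Main results: `exists_ext_values`, `exists_ext_of_data`.
-/
import Cfsg.Agent.Lib.PcCover.Base

set_option autoImplicit false
set_option linter.style.haveILetI false

open scoped commutatorElement

namespace Cfsg.Agent.PcCover

universe u v

section transfer

variable {G : Type u} [Group G] {Γ : Type v} [Group Γ] (σ : Γ →* G)
  {n : ℕ} (e : Fin n ≃ G ⧸ σ.range) (R : Fin n → G) (hR : ∀ t, (R t : G ⧸ σ.range) = e t)

include hR in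
/-- The corestricted extension with the commutators of lifts of commuting elements. -/
theorem exists_ext_values [Finite G] [Finite Γ] (hc : σ.ker ≤ Subgroup.center Γ) :
    ∃ (Γ' : Type (max u v)) (_ : Group Γ') (_ : Finite Γ') (τ : Γ' →* G) (ι : σ.ker →* Γ'),
      Function.Surjective τ ∧ τ.ker ≤ Subgroup.center Γ' ∧ Function.Injective ι ∧ ι.range = τ.ker ∧
      ∀ (x y : G), x * y = y * x → ∀ (jx jy : Fin n → Fin n) (p q : Fin n → Γ),
        (∀ t, x * R t = R (jx t) * σ (p t)) → (∀ t, y * R t = R (jy t) * σ (q t)) →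
        ∀ κ : Fin n → σ.ker, (∀ t, p (jy t) * q t = (κ t : Γ) * (q (jx t) * p t)) →
        ∀ X Y : Γ', τ X = x → τ Y = y →
          ⁅X, Y⁆ = ι (@Finset.prod _ σ.ker (kerComm σ hc).toCommMonoid Finset.univ κ) := by
  classical
  letI := kerComm σ hc
  let c := cor σ e R hR hc
  have hact : ∀ (g : G) (j : Fin n → Fin n) (r : Fin n → Γ), (∀ t, g * R t = R (j t) * σ (r t)) →
      ∀ t, act σ e g t = j t ∧ σ (lift σ e R hR g t) = σ (r t) := by
    intro g j r hr t
    have h1 : act σ e g t = j t := by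
      rw [act, Equiv.symm_apply_eq, ← hR, ← hR, MulAction.Quotient.smul_coe, smul_eq_mul, hr,
        QuotientGroup.eq, mul_inv_rev, mul_assoc, inv_mul_cancel, mul_one]
      exact inv_mem ⟨r t, rfl⟩
    refine ⟨h1, ?_⟩
    rw [lift_spec, h1, hr, inv_mul_cancel_left]
  refine ⟨CExt c, inferInstance, inferInstance, CExt.proj, CExt.incl, CExt.proj_surjective,
    CExt.ker_le_center, CExt.incl_injective, CExt.ker_proj.symm, ?_⟩
  intro x y hxy jx jy p q hp hq κ hκ X Y hX hY
  have hx := hact x jx p hp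
  have hy := hact y jy q hq
  let a : Fin n → σ.ker := fun t => ⟨p t * (lift σ e R hR x t)⁻¹, by
    rw [MonoidHom.mem_ker, map_mul, map_inv, (hx t).2, mul_inv_cancel]⟩
  let b : Fin n → σ.ker := fun t => ⟨q t * (lift σ e R hR y t)⁻¹, by
    rw [MonoidHom.mem_ker, map_mul, map_inv, (hy t).2, mul_inv_cancel]⟩
  have hfac : ∀ t, κ t * b (act σ e x t) * a t * factor σ e R hR y x t =
      a (act σ e y t) * b t * factor σ e R hR x y t := by
    intro t
    refine Subtype.ext ?_
    have h := hκ t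
    rw [← (hx t).1, ← (hy t).1] at h
    simp only [Subgroup.coe_mul, factor]
    have hap : ∀ s, p s = (a s : Γ) * lift σ e R hR x s := fun s => (inv_mul_cancel_right _ _).symm
    have hbq : ∀ s, q s = (b s : Γ) * lift σ e R hR y s := fun s => (inv_mul_cancel_right _ _).symm
    rw [hap, hbq, hbq, hap] at h
    have hcen : ∀ (z : σ.ker) (w : Γ), w * (z : Γ) = (z : Γ) * w := fun z =>
      Subgroup.mem_center_iff.1 (hc z.2)
    generalize lift σ e R hR x (act σ e y t) = A, lift σ e R hR y t = B,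
      lift σ e R hR y (act σ e x t) = B', lift σ e R hR x t = A' at h ⊢
    rw [show lift σ e R hR (y * x) t = lift σ e R hR (x * y) t by rw [hxy]]
    generalize lift σ e R hR (x * y) t = C
    calc (κ t : Γ) * b (act σ e x t) * a t * (B' * A' * C⁻¹)
        = (κ t : Γ) * b (act σ e x t) * ((a t : Γ) * B') * A' * C⁻¹ := by group
      _ = (κ t : Γ) * (((b (act σ e x t) : Γ) * B') * ((a t : Γ) * A')) * C⁻¹ := by
          rw [← hcen (a t) B']; group
      _ = (((a (act σ e y t) : Γ) * A) * ((b t : Γ) * B)) * C⁻¹ := by rw [h]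
      _ = (a (act σ e y t) : Γ) * (A * (b t : Γ)) * B * C⁻¹ := by group
      _ = _ := by rw [hcen (b t) A]; group
  have hprod : (∏ t, κ t) = c.F x y * (c.F y x)⁻¹ := by
    rw [eq_mul_inv_iff_mul_eq]
    show (∏ t, κ t) * (∏ t, factor σ e R hR y x t) = ∏ t, factor σ e R hR x y t
    have h := Finset.prod_congr (s₁ := Finset.univ) rfl fun t _ => hfac t
    simp only [Finset.prod_mul_distrib] at h
    rw [show (∏ t, b (act σ e x t)) = ∏ t, b t from Equiv.prod_comp (actEquiv σ e x) b,
      show (∏ t, a (act σ e y t)) = ∏ t, a t from Equiv.prod_comp (actEquiv σ e y) a] at h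
    refine mul_left_cancel (a := (∏ t, a t) * ∏ t, b t) ?_
    rw [← h]
    ac_rfl
  rw [hprod, ← CExt.commutator_mk (c := c) hxy]
  exact Multiplier.commutator_congr CExt.ker_le_center hX hY

end transfer

section data

variable {G : Type} [Group G] [Finite G] {α : Type} [DecidableEq α] [Finite α]

/-- A commuting pair with its coset data. -/
structure PairData (G : Type) where
  /-- The first element. -/
  x : G
  /-- The second element. -/
  y : G
  /-- Images of the indices. -/
  jx : ℕ → ℕ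
  /-- Images of the indices. -/
  jy : ℕ → ℕ
  /-- Words. -/
  uw : ℕ → List ℕ
  /-- Words. -/
  vw : ℕ → List ℕ
  /-- The total tail vector. -/
  tot : List ℤ

/-- The conditions on a commuting pair. -/
def PairData.Ok (P : PairData G) (C : BaseCert) (g : ℕ → G) {N : ℕ} (R : Fin N → G) : Prop :=
  P.x * P.y = P.y * P.x ∧
  (∀ i : Fin N, ∃ h : P.jx i < N, P.x * R i = R ⟨P.jx i, h⟩ * wp g (P.uw i)) ∧
  (∀ i : Fin N, ∃ h : P.jy i < N, P.y * R i = R ⟨P.jy i, h⟩ * wp g (P.vw i)) ∧
  (∀ i : Fin N, ∀ d ∈ P.uw i, d < C.n) ∧ (∀ i : Fin N, ∀ d ∈ P.vw i, d < C.n) ∧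
  (List.range N).all (termOk C.rules P.uw P.vw P.jx P.jy) = true ∧
  zeroV (subV ((List.range N).foldr (fun i v => addV (termV C.rules P.uw P.vw P.jx P.jy i) v) []) P.tot) = true

theorem exists_ext_of_data (C : BaseCert) (g : ℕ → G) (eqw : List ℕ → List ℕ → Bool)
    (heqw : ∀ u w, eqw u w = true ↔ wp g u = wp g w) (h : C.check eqw = true)
    (A : ℕ → Equiv.Perm α) (z : Equiv.Perm α) (hz : ∀ i < C.n, A i * z = z * A i)
    (hzm : orderOf z = C.m)
    (hA : ∀ k < C.rules.length, ∀ x, wp A (C.rules.getD k ([], [])).1 x =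
      (wp A (C.rules.getD k ([], [])).2 * z ^ C.phi.getD k 0) x)
    (hphi : C.phi.length = C.rules.length)
    {N : ℕ} (R : Fin N → G) (Φ : G → ℕ) (hΦ : ∀ a : G, ∀ i < C.n, Φ (a * g i) = Φ a)
    (hinj : Function.Injective (Φ ∘ R)) (hcard : Nat.card G = N * C.elems.length)
    {ι' : Type*} (PD : ι' → PairData G) (hP : ∀ k, (PD k).Ok C g R) :
    ∃ (Γ : Type) (_ : Group Γ) (_ : Finite Γ) (σ : Γ →* G) (c : Γ),
      Function.Surjective σ ∧ σ.ker ≤ Subgroup.center Γ ∧ σ.ker = Subgroup.zpowers c ∧ orderOf c = C.m ∧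
      ∀ (k : ι') (X Y : Γ), σ X = (PD k).x → σ Y = (PD k).y → ⁅X, Y⁆ = c ^ dotV C.phi (PD k).tot := by
  classical
  simp only [BaseCert.check, Bool.and_eq_true, List.all_eq_true, List.mem_range, decide_eq_true_eq,
    Bool.not_eq_true'] at h
  obtain ⟨⟨⟨⟨hrules, hone⟩, helt⟩, hclosed⟩, hnodup⟩ := h
  let P := model C.n g A z
  let σ : P →* G := (MonoidHom.snd _ _).comp P.subtype
  let a : ℕ → P := fun i =>
    if hi : i < C.n then ⟨(A i, g i), Subgroup.subset_closure (Or.inl ⟨i, hi, rfl⟩)⟩ else 1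
  have ha : ∀ {w : List ℕ}, (∀ d ∈ w, d < C.n) → ((wp a w : P) : Equiv.Perm α × G) = (wp A w, wp g w) := by
    intro w hw
    induction w with
    | nil => rfl
    | cons d w ih =>
      rw [wp_cons, wp_cons, wp_cons, Subgroup.coe_mul, ih fun e he => hw e (List.mem_cons_of_mem _ he)]
      simp only [a, dif_pos (hw d List.mem_cons_self)]
      rfl
  let z0 : P := ⟨(z, 1), Subgroup.subset_closure (Or.inr rfl)⟩
  have hz0 : z0 ∈ Subgroup.center P := by
    rw [Subgroup.mem_center_iff]
    intro p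
    have hle : P ≤ Subgroup.centralizer {((z, 1) : Equiv.Perm α × G)} := by
      show Subgroup.closure _ ≤ _
      rw [Subgroup.closure_le]
      rintro _ (⟨i, hi, rfl⟩ | h)
      · refine Subgroup.mem_centralizer_singleton_iff.2 (Prod.ext (hz i hi) ?_)
        show g i * 1 = 1 * g i
        rw [one_mul, mul_one]
      · rw [h]
        exact Subgroup.mem_centralizer_singleton_iff.2 rfl
    exact Subtype.ext (Subgroup.mem_centralizer_singleton_iff.1 (hle p.2))
  let zc : Subgroup.center P := ⟨z0, hz0⟩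
  let ts : List (Subgroup.center P) := C.phi.map (zc ^ ·)
  have hlet : ∀ r ∈ C.rules, (∀ d ∈ r.1, d < C.n) ∧ ∀ d ∈ r.2, d < C.n := fun r hr =>
    ⟨(hrules r hr).1.2, (hrules r hr).2⟩
  have hR : RulesHold a ts C.rules := by
    intro k r hr
    have hk : k < C.rules.length := (List.getElem?_eq_some_iff.1 hr).1
    have hgd : C.rules.getD k ([], []) = r := by rw [List.getD_eq_getElem?_getD, hr]; rfl
    have hts : ts.getD k 1 = zc ^ C.phi.getD k 0 := by
      simp only [ts, List.getD_eq_getElem?_getD, List.getElem?_map]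
      rw [List.getElem?_eq_getElem (hphi ▸ hk)]
      rfl
    have hl := hlet r (List.mem_of_getElem? hr)
    refine Subtype.ext ?_
    rw [hts, Subgroup.coe_mul, ha hl.1, ha hl.2, SubgroupClass.coe_pow, SubgroupClass.coe_pow]
    refine Prod.ext ?_ ?_
    · exact Equiv.ext fun p => hgd ▸ hA k hk p
    · show wp g r.1 = wp g r.2 * 1 ^ C.phi.getD k 0
      rw [one_pow, mul_one]
      exact (heqw _ _).1 (hrules r (List.mem_of_getElem? hr)).1.1
  have hdot : ∀ (es : List ℕ) (v : List ℤ), val (es.map (zc ^ ·)) v = zc ^ dotV es v := by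
    intro es
    induction es with
    | nil => intro v; show val [] v = _; rw [dotV, zpow_zero]; cases v <;> rfl
    | cons e es ih =>
      intro v
      cases v with
      | nil => show val _ [] = _; rw [val_nil, dotV, zpow_zero]; simp
      | cons b v =>
        show (zc ^ e) ^ b * val (es.map (zc ^ ·)) v = zc ^ ((e : ℤ) * b + dotV es v)
        rw [ih v, zpow_add, zpow_mul, zpow_natCast]
  have hz0σ : ∀ j : ℤ, σ (z0 ^ j) = 1 := fun j => by
    rw [map_zpow, show σ z0 = 1 from rfl, one_zpow]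
  have hσv : ∀ v, σ (val ts v : P) = 1 := fun v => by
    rw [hdot, SubgroupClass.coe_zpow]; exact hz0σ _
  -- normal forms
  have hform : ∀ p : P, ∃ l ∈ C.elems, ∃ j : ℤ, p = wp a l * z0 ^ j := by
    intro p
    obtain ⟨q, hq⟩ := p
    have hq' : q ∈ Submonoid.closure ({x | ∃ i < C.n, x = (A i, g i)} ∪ {(z, 1)}) := by
      have : (q : Equiv.Perm α × G) ∈ (model C.n g A z).toSubmonoid := hq
      rwa [model, Subgroup.closure_toSubmonoid_of_finite] at this
    suffices hs : ∃ l ∈ C.elems, ∃ j : ℤ, q = ((wp a l * z0 ^ j : P) : Equiv.Perm α × G) by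
      obtain ⟨l, hl, j, e⟩ := hs
      exact ⟨l, hl, j, Subtype.ext e⟩
    clear hq
    induction hq' using Submonoid.closure_induction_right with
    | one => exact ⟨[], List.contains_iff_mem.1 hone, 0, by rw [wp_nil, zpow_zero, mul_one]; rfl⟩
    | mul_right u _ w hw ih =>
      obtain ⟨l, hl, j, rfl⟩ := ih
      rcases hw with ⟨i, hi, rfl⟩ | hw
      · refine ⟨_, List.contains_iff_mem.1 (hclosed l hl i hi), dotV C.phi (collect C.rules (l ++ [i])).2 + j, ?_⟩
        have hai : ((a i : P) : Equiv.Perm α × G) = (A i, g i) := by simp only [a, dif_pos hi]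
        rw [← hai, ← Subgroup.coe_mul]
        refine congrArg Subtype.val ?_
        rw [mul_assoc, ← (Subgroup.mem_center_iff.1 (Subgroup.zpow_mem _ hz0 j)) (a i), ← mul_assoc,
          show wp a l * a i = wp a (l ++ [i]) by rw [wp_append, wp_single], collect_sound hR (l ++ [i]),
          hdot, SubgroupClass.coe_zpow, mul_assoc, ← zpow_add]
      · rw [hw]
        refine ⟨l, hl, j + 1, ?_⟩
        rw [zpow_add, zpow_one, ← mul_assoc, Subgroup.coe_mul (model C.n g A z) (wp a l * z0 ^ j) z0]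
  have hσw : ∀ {w : List ℕ}, (∀ d ∈ w, d < C.n) → σ (wp a w) = wp g w := fun hw => by
    show ((wp a _ : P) : Equiv.Perm α × G).2 = _
    rw [ha hw]
  have hkey : ∀ i j : Fin C.elems.length, j < i → wp g (C.elems.get i) ≠ wp g (C.elems.get j) := by
    intro i j hlt he
    have hn := hnodup i.val i.isLt j.val hlt
    rw [← heqw] at he
    simp [List.getD_eq_getElem?_getD] at hn
    simp [hn] at he
  have hkinj : ∀ i j : Fin C.elems.length, wp g (C.elems.get i) = wp g (C.elems.get j) → i = j := by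
    intro i j e
    rcases lt_trichotomy i j with h | h | h
    · exact absurd e.symm (hkey j i h)
    · exact h
    · exact absurd e (hkey i j h)
  have hker : ∀ p : P, p ∈ σ.ker ↔ p ∈ Subgroup.zpowers z0 := by
    intro p
    refine ⟨fun hp => ?_, ?_⟩
    · obtain ⟨l, hl, j, rfl⟩ := hform p
      rw [MonoidHom.mem_ker, map_mul, hz0σ, mul_one, hσw (helt l hl)] at hp
      obtain ⟨i, hi⟩ := List.get_of_mem hl
      obtain ⟨i0, hi0⟩ := List.get_of_mem (List.contains_iff_mem.1 hone)
      have := hkinj i i0 (by rw [hi, hi0]; exact hp)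
      rw [this, hi0] at hi
      rw [← hi, wp_nil, one_mul]
      exact zpow_mem (Subgroup.mem_zpowers z0) j
    · rintro ⟨j, rfl⟩
      exact hz0σ j
  have hc : σ.ker ≤ Subgroup.center P := fun p hp => by
    obtain ⟨j, rfl⟩ := (hker p).1 hp
    exact Subgroup.zpow_mem _ hz0 j
  have hkereq : σ.ker = Subgroup.zpowers z0 := Subgroup.ext hker
  have hcardker : Nat.card σ.ker = C.m := by
    rw [hkereq, Nat.card_zpowers, ← Subgroup.orderOf_coe z0]
    show orderOf ((z, 1) : Equiv.Perm α × G) = C.m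
    rw [Prod.orderOf, orderOf_one, Nat.lcm_one_right, hzm]
  -- the cosets
  have hrange : σ.range = Subgroup.closure {b | ∃ i < C.n, b = g i} := by
    refine le_antisymm ?_ ((Subgroup.closure_le _).2 ?_)
    · rintro _ ⟨p, rfl⟩
      obtain ⟨l, hl, j, rfl⟩ := hform p
      rw [map_mul, hz0σ, mul_one, hσw (helt l hl)]
      exact Subgroup.list_prod_mem _ fun w hw => by
        obtain ⟨i, hi, rfl⟩ := List.mem_map.1 hw
        exact Subgroup.subset_closure ⟨i, helt l hl i hi, rfl⟩
    · rintro _ ⟨i, hi, rfl⟩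
      exact ⟨a i, by simp only [a, dif_pos hi]; rfl⟩
  have hcardR : Nat.card σ.range = C.elems.length := by
    let f : Fin C.elems.length → σ.range := fun i => ⟨σ (wp a (C.elems.get i)), ⟨_, rfl⟩⟩
    refine ((Nat.card_congr (Equiv.ofBijective f ⟨fun i j e => hkinj i j ?_, fun q => ?_⟩)).symm).trans
      (Nat.card_fin _)
    · have e' := congrArg Subtype.val e
      simp only [f] at e'
      rwa [hσw (helt _ (List.get_mem _ _)), hσw (helt _ (List.get_mem _ _))] at e'
    · obtain ⟨p, hp⟩ := q.2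
      obtain ⟨l, hl, j, rfl⟩ := hform p
      obtain ⟨i, hi⟩ := List.get_of_mem hl
      exact ⟨i, Subtype.ext (by simp only [f]; rw [hi, ← hp, map_mul, hz0σ, mul_one])⟩
  have hΦ' : ∀ (b : G) (q : G), q ∈ σ.range → Φ (b * q) = Φ b := by
    intro b q hq
    rw [hrange, ← Subgroup.mem_toSubmonoid, Subgroup.closure_toSubmonoid_of_finite] at hq
    induction hq using Submonoid.closure_induction_right with
    | one => rw [mul_one]
    | mul_right u _ w hw ih =>
      obtain ⟨i, hi, rfl⟩ := hw
      rw [← mul_assoc, hΦ _ i hi, ih]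
  have hidx : σ.range.index = N := by
    have e := σ.range.card_mul_index
    rw [hcardR, hcard, mul_comm N] at e
    have hpos : 0 < C.elems.length := hcardR ▸ Nat.card_pos
    exact Nat.eq_of_mul_eq_mul_left hpos e
  have hbij : Function.Bijective fun t : Fin N => (R t : G ⧸ σ.range) := by
    refine (Nat.bijective_iff_injective_and_card _).2 ⟨fun s t e => hinj ?_, ?_⟩
    · have := QuotientGroup.eq.1 e
      show Φ (R s) = Φ (R t)
      rw [← hΦ' (R s) _ this, mul_inv_cancel_left]
    · rw [Nat.card_fin]; exact hidx.symm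
  let e := Equiv.ofBijective _ hbij
  letI := kerComm σ hc
  obtain ⟨Γ, hΓ, hfin, τ, ι, hτs, hτc, hιi, hιr, hval⟩ := exists_ext_values σ e R (fun _ => rfl) hc
  let c0 : σ.ker := ⟨z0, (hker z0).2 (Subgroup.mem_zpowers z0)⟩
  have hgen0 : ∀ w : σ.ker, w ∈ Subgroup.zpowers c0 := fun w => by
    obtain ⟨j, hj⟩ := (hker w.1).1 w.2
    exact Subgroup.mem_zpowers_iff.2 ⟨j, Subtype.ext (by rw [SubgroupClass.coe_zpow]; exact hj)⟩
  refine ⟨Γ, hΓ, hfin, τ, ι c0, hτs, hτc, ?_, ?_, fun k X Y hX hY => ?_⟩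
  · rw [← hιr]
    refine le_antisymm ?_ (Subgroup.zpowers_le.2 ⟨c0, rfl⟩)
    rintro _ ⟨w, rfl⟩
    obtain ⟨j, rfl⟩ := Subgroup.mem_zpowers_iff.1 (hgen0 w)
    rw [map_zpow]
    exact Subgroup.zpow_mem_zpowers _ _
  · rw [orderOf_injective ι hιi, ← Subgroup.orderOf_coe c0]
    show orderOf z0 = C.m
    rw [← Nat.card_zpowers, ← hkereq, hcardker]
  generalize hPk : PD k = Q at hX hY ⊢
  obtain ⟨hxy, hx', hy', huw, hvw, hterm, htot⟩ := hPk ▸ hP k
  obtain ⟨x, y, jx, jy, uw, vw, tot⟩ := Q
  dsimp only at *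
  have hjx : ∀ i : Fin N, jx i < N := fun i => (hx' i).1
  have hjy : ∀ i : Fin N, jy i < N := fun i => (hy' i).1
  have hx : ∀ i : Fin N, x * R i = R ⟨jx i, hjx i⟩ * wp g (uw i) := fun i => (hx' i).2
  have hy : ∀ i : Fin N, y * R i = R ⟨jy i, hjy i⟩ * wp g (vw i) := fun i => (hy' i).2
  have hterms : ∀ i : Fin N, ∀ {w : List ℕ}, w = uw i ∨ w = vw i → ∀ d ∈ w, d < C.n := by
    intro i w hw
    rcases hw with rfl | rfl
    exacts [huw i, hvw i]
  let κ : Fin N → σ.ker := fun i =>
    ⟨(val ts (termV C.rules uw vw jx jy i) : P), (hσv _)⟩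
  have hκ : ∀ i : Fin N, wp a (uw (jy i)) * wp a (vw i) = (κ i : P) * (wp a (vw (jx i)) * wp a (uw i)) := by
    intro i
    have hok : termOk C.rules uw vw jx jy i = true := List.all_eq_true.1 hterm i.val (List.mem_range.2 i.isLt)
    rw [termOk, beq_iff_eq] at hok
    rw [← wp_append, ← wp_append, collect_sound hR (uw (jy i) ++ vw i),
      collect_sound hR (vw (jx i) ++ uw i), hok]
    show _ = (val ts (termV C.rules uw vw jx jy i) : P) * _
    rw [← mul_assoc, ← comm_val ts (termV C.rules uw vw jx jy i), mul_assoc, ← Subgroup.coe_mul, termV, val_sub,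
      inv_mul_cancel_right]
  have hprod : ((∏ i, κ i : σ.ker) : P) = z0 ^ dotV C.phi tot := by
    have h1 : ∀ l : List ℕ, (val ts (l.foldr (fun i v => addV (termV C.rules uw vw jx jy i) v) []) : P) =
        (l.map fun i => (val ts (termV C.rules uw vw jx jy i) : P)).prod := by
      intro l
      induction l with
      | nil => rw [List.foldr_nil, val_nil]; rfl
      | cons i l ih => rw [List.foldr_cons, val_add, Subgroup.coe_mul, ih, List.map_cons, List.prod_cons]
    have h2 : val ts ((List.range N).foldr (fun i v => addV (termV C.rules uw vw jx jy i) v) []) = val ts tot := by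
      have := val_zero ts _ htot
      rwa [val_sub, mul_inv_eq_one] at this
    have h3 := h1 (List.range N)
    rw [h2, hdot, SubgroupClass.coe_zpow] at h3
    rw [show (((zc : Subgroup.center P) : P)) = z0 from rfl] at h3
    rw [h3, ← List.prod_ofFn, SubmonoidClass.coe_list_prod, List.map_ofFn, ← List.map_coe_finRange_eq_range,
      List.map_map, List.ofFn_eq_map]
    rfl
  rw [hval x y hxy (fun i => ⟨jx i, hjx i⟩) (fun i => ⟨jy i, hjy i⟩) (fun i => wp a (uw i)) (fun i => wp a (vw i))
    (fun i => by rw [hσw (huw i)]; exact hx i) (fun i => by rw [hσw (hvw i)]; exact hy i) κ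
    (fun i => hκ i) X Y hX hY, ← map_zpow]
  exact congrArg ι (Subtype.ext (by rw [hprod, SubgroupClass.coe_zpow]))

end data

end Cfsg.Agent.PcCover
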