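/-
Extensions of subgroups of M24 from two coset tables with common representatives.

Main result: `exists_ext_of_table`.
-/
import Cfsg.Agent.Lib.PcCover.Mathieu
import Cfsg.Agent.Lib.PcCover.Pairs

set_option autoImplicit false
open scoped Pointwise commutatorElement
open Cfsg

namespace Cfsg.Agent.PcCover

open Cfsg.Agent.Golay Cfsg.Agent.Multiplier

variable {ok : ℕ → Bool} {Gs : Subgroup (Equiv.Perm GolayPt)}
  (hok : ∀ d, ok d = true → validPerm d = true ∧ toPerm d ∈ Gs)

include hok in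
/-- Two checked tables with the same representatives give an extension with both commutators. -/
theorem exists_ext_of_table {α : Type} [DecidableEq α] [Finite α] (C : BaseCert) (T : Table)
    (hn : C.n = T.n) (hcard : Nat.card Gs = T.size * C.elems.length)
    (hC : C.check (eqWord T.gens) = true) (hB : T.baseOk ok C.rules = true)
    (hrows : ∀ i < T.size, T.rowOk ok C.rules i = true)
    (A : ℕ → Equiv.Perm α) (z : Equiv.Perm α) (hz : ∀ i < C.n, A i * z = z * A i)
    (hzm : orderOf z = C.m)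
    (hA : ∀ k < C.rules.length, ∀ x, wp A (C.rules.getD k ([], [])).1 x =
      (wp A (C.rules.getD k ([], [])).2 * z ^ C.phi.getD k 0) x)
    (hphi : C.phi.length = C.rules.length)
    (T' : Table) (hn' : T'.n = T.n) (hgens'' : T'.gens = T.gens) (hsize : T'.size = T.size)
    (hrep : ∀ i < T.size, T'.rep i = T.rep i)
    (hB' : T'.baseOk ok C.rules = true) (hrows' : ∀ i < T'.size, T'.rowOk ok C.rules i = true) :
    ∃ (Γ : Type) (_ : Group Γ) (_ : Finite Γ) (σ : Γ →* Gs) (c : Γ),
      Function.Surjective σ ∧ σ.ker ≤ Subgroup.center Γ ∧ σ.ker = Subgroup.zpowers c ∧ orderOf c = C.m ∧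
      (∀ X Y : Γ, σ X = MathieuCert.el hok T.x → σ Y = MathieuCert.el hok T.y →
        ⁅X, Y⁆ = c ^ dotV C.phi T.tot) ∧
      (∀ X Y : Γ, σ X = MathieuCert.el hok T'.x → σ Y = MathieuCert.el hok T'.y →
        ⁅X, Y⁆ = c ^ dotV C.phi T'.tot) := by
  simp only [Table.baseOk, Bool.and_eq_true, Bool.not_eq_true', List.all_eq_true, List.mem_range,
    decide_eq_true_eq, Bool.or_eq_true, beq_iff_eq] at hB
  obtain ⟨⟨⟨⟨⟨⟨⟨hne, hgens'⟩, hxo⟩, hyo⟩, hxy⟩, hmlt⟩, hinv⟩, htot⟩ := hB
  have hgens : T.gens.all ok = true := List.all_eq_true.2 hgens'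
  have hrow : ∀ i : Fin T.size, _ := fun i => hrows i.val i.isLt
  simp only [Table.rowOk, Bool.and_eq_true, decide_eq_true_eq, List.all_eq_true, Bool.or_eq_true,
    Nat.blt_eq] at hrow
  let Φ : Gs → ℕ := fun g => keyOf (fun mk => maskOf ((g : Equiv.Perm GolayPt) • pts mk)) T.masks
  have hel : ∀ {d}, ok d = true → ((MathieuCert.el hok d : Gs) : Equiv.Perm GolayPt) = toPerm d :=
    fun {d} hd => by rw [MathieuCert.el, dif_pos hd]
  have himg : ∀ {d}, ok d = true → ∀ mk, pts (imgMask d mk) = toPerm d • pts mk := fun hd mk =>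
    pts_imgMask (hok _ hd).1 mk
  have hΦrep : ∀ {d}, ok d = true → Φ (MathieuCert.el hok d) = keyOf (imgMask d) T.masks := by
    intro d hd
    refine keyOf_congr fun p hp => Or.inl ?_
    have hlt : ∀ mk, imgMask d mk < 16777216 := fun mk => by
      have := Golay.imgMask_lt (hok _ hd).1 mk
      simpa using this
    simp only [hel hd, ← himg hd]
    exact ⟨maskOf_pts (hlt _), maskOf_pts (hlt _)⟩
  have hΦ : ∀ a : Gs, ∀ i < C.n, Φ (a * letter hok T.gens i) = Φ a := by
    intro a i hi
    refine keyOf_congr fun p hp => ?_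
    have hc := code_ok hne hgens i
    simp only [Subgroup.coe_mul, mul_smul, letter, hel hc, ← himg hc]
    rcases hinv i (hn ▸ hi) p hp with ⟨h1, h2⟩ | ⟨h1, h2⟩
    · exact Or.inl ⟨by rw [h1], by rw [h2]⟩
    · exact Or.inr ⟨by rw [h1], by rw [h2]⟩
  let R : Fin T.size → Gs := fun i => MathieuCert.el hok (T.rep i)
  have hro : ∀ i : Fin T.size, ok (T.rep i) = true := fun i => (hrow i).1.1.1.1.1.1.1.1
  have hmono : StrictMono (Φ ∘ R) := by
      intro i j hij
      have key : ∀ j : ℕ, ∀ (hj : j < T.size), i.val < j →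
          keyOf (imgMask (T.rep i)) T.masks < keyOf (imgMask (T.rep j)) T.masks := by
        intro j
        induction j with
        | zero => intro _ h; omega
        | succ j ih =>
          intro hj h
          have hstep := ((hrow ⟨j, by omega⟩).1.2).resolve_left (by simp only; omega)
          rcases Nat.lt_succ_iff_lt_or_eq.1 h with h' | h'
          · exact (ih (by omega) h').trans hstep
          · rw [h']; exact hstep
      simp only [Function.comp_apply, R, hΦrep (hro _)]
      exact key j j.isLt hij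
  have hxy' : MathieuCert.el hok T.x * MathieuCert.el hok T.y = MathieuCert.el hok T.y * MathieuCert.el hok T.x := by
    have := (MathieuCert.word_eq_iff hok (l := [T.x, T.y]) (r := [T.y, T.x]) (by simp [hxo, hyo])
      (by simp [hxo, hyo])).2 hxy
    simpa [MathieuCert.word_cons, MathieuCert.word_nil] using this
  have hstep : ∀ (c : ℕ), ok c = true → ∀ (i j : Fin T.size) (w : List ℕ),
      MathieuCert.eqW [c, T.rep i] (T.rep j :: w.map (code T.gens)) = true →
      MathieuCert.el hok c * R i = R j * wp (letter hok T.gens) w := by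
    intro c hc i j w h
    have h' := (MathieuCert.word_eq_iff hok (by simp [hc, hro i]) (fun d hd => by
      rcases List.mem_cons.1 hd with rfl | hd
      · exact hro j
      · obtain ⟨k, -, rfl⟩ := List.mem_map.1 hd
        exact code_ok hne hgens k)).2 h
    rw [MathieuCert.word_cons, MathieuCert.word_cons, MathieuCert.word_nil, mul_one,
      MathieuCert.word_cons, word_map] at h'
    exact h'
  simp only [Table.baseOk, Bool.and_eq_true, Bool.not_eq_true', List.all_eq_true, List.mem_range,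
    decide_eq_true_eq, Bool.or_eq_true, beq_iff_eq] at hB'
  obtain ⟨⟨⟨⟨⟨⟨⟨-, -⟩, hxo'⟩, hyo'⟩, hxy0⟩, -⟩, -⟩, htot'⟩ := hB'
  have hxy'' : MathieuCert.el hok T'.x * MathieuCert.el hok T'.y =
      MathieuCert.el hok T'.y * MathieuCert.el hok T'.x := by
    have := (MathieuCert.word_eq_iff hok (l := [T'.x, T'.y]) (r := [T'.y, T'.x]) (by simp [hxo', hyo'])
      (by simp [hxo', hyo'])).2 hxy0
    simpa [MathieuCert.word_cons, MathieuCert.word_nil] using this
  have hrow' : ∀ i : Fin T.size, _ := fun i => hrows' i.val (hsize.symm ▸ i.isLt)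
  simp only [Table.rowOk, Bool.and_eq_true, decide_eq_true_eq, List.all_eq_true, Bool.or_eq_true,
    Nat.blt_eq, hn', hgens'', hsize] at hrow'
  let PD : Bool → PairData Gs := fun k => bif k then
      ⟨MathieuCert.el hok T'.x, MathieuCert.el hok T'.y, T'.jx, T'.jy, T'.uw, T'.vw, T'.tot⟩
    else ⟨MathieuCert.el hok T.x, MathieuCert.el hok T.y, T.jx, T.jy, T.uw, T.vw, T.tot⟩
  have hPD : ∀ k, (PD k).Ok C (letter hok T.gens) R := by
    intro k
    cases k
    · exact ⟨hxy', fun i => ⟨(hrow i).1.1.1.1.1.1.1.2, hstep T.x hxo i ⟨_, (hrow i).1.1.1.1.1.1.1.2⟩ _ (hrow i).1.1.1.2⟩,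
        fun i => ⟨(hrow i).1.1.1.1.1.1.2, hstep T.y hyo i ⟨_, (hrow i).1.1.1.1.1.1.2⟩ _ (hrow i).1.1.2⟩,
        fun i d hd => hn ▸ (hrow i).1.1.1.1.1.2 d hd, fun i d hd => hn ▸ (hrow i).1.1.1.1.2 d hd,
        List.all_eq_true.2 fun i hi => (hrow ⟨i, List.mem_range.1 hi⟩).2, htot⟩
    · refine ⟨hxy'', fun i => ?_, fun i => ?_, fun i d hd => hn ▸ (hrow' i).1.1.1.1.1.2 d hd,
        fun i d hd => hn ▸ (hrow' i).1.1.1.1.2 d hd,
        List.all_eq_true.2 fun i hi => (hrow' ⟨i, List.mem_range.1 hi⟩).2, hsize ▸ htot'⟩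
      · have hj := (hrow' i).1.1.1.1.1.1.1.2
        have h := (hrow' i).1.1.1.2
        rw [hrep i i.isLt, hrep _ hj] at h
        exact ⟨hj, hstep T'.x hxo' i ⟨_, hj⟩ _ h⟩
      · have hj := (hrow' i).1.1.1.1.1.1.2
        have h := (hrow' i).1.1.2
        rw [hrep i i.isLt, hrep _ hj] at h
        exact ⟨hj, hstep T'.y hyo' i ⟨_, hj⟩ _ h⟩
  obtain ⟨Γ, hΓ, hfin, σ, c, h1, h2, h3, h4, h5⟩ := exists_ext_of_data C (letter hok T.gens) (eqWord T.gens)
    (eqWord_iff hok hne hgens) hC A z hz hzm hA hphi R Φ hΦ hmono.injective hcard PD hPD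
  exact ⟨Γ, hΓ, hfin, σ, c, h1, h2, h3, h4, h5 false, h5 true⟩

end Cfsg.Agent.PcCover
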